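import Cfsg.Agent.CL3.Defs

/-! Maps in the 3-closure of an affine group are affine. -/

set_option autoImplicit false

namespace Cfsg.Agent.CL3

universe u

open Cfsg.Agent.H11

variable {A V : Type*} [Group A] [AddCommGroup V] [Finite V] [DistribMulAction A V]

theorem add_odd (h2 : ∀ v : V, v + v = 0 → v = 0) {f : V → V} (hf : Dif A f) (u v : V) :
    f (u + v) - f 0 = (f u - f 0) + (f v - f 0) := by
  have hi : Function.Injective fun m : V => m + m := fun a b e => sub_eq_zero.1 (h2 _ (by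
    rw [sub_add_sub_comm, sub_eq_zero]; exact e))
  obtain ⟨m, hm⟩ := Finite.surjective_of_injective hi (u + v)
  have key : ∀ a b, m + m = a + b → f a + f b = f m + f m := fun a b e => by
    obtain ⟨g, h3, h4⟩ := hf a m b
    have e1 : b - a = (m - a) + (m - a) := by rw [sub_add_sub_comm, e]; abel
    rw [e1, smul_add, ← h3] at h4
    rw [sub_eq_iff_eq_add.1 h4]
    abel
  have e1 := key u v hm
  have e2 := key 0 (u + v) (by rw [zero_add]; exact hm)
  rw [← e1] at e2
  rw [eq_sub_of_add_eq' e2]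
  abel

theorem add_idx (hirr : H33.Irr A V) {x : V} {C : AddSubgroup V} (hC : C.index = 2)
    (hx : ∀ g : A, g • x = x → ∀ u ∈ C, g • u ∈ C) {f : V → V} (hi : Function.Injective f)
    (hf : Dif A f) (u v : V) : f (u + v) - f 0 = (f u - f 0) + (f v - f 0) := by
  have wd : ∀ g g' : A, g • x = g' • x → ∀ w, g⁻¹ • w ∈ C → g'⁻¹ • w ∈ C := fun g g' e w hw => by
    have := hx (g'⁻¹ * g) (by rw [mul_smul, e, inv_smul_smul]) _ hw
    rwa [mul_smul, smul_inv_smul] at this
  have key : ∀ g0 g1 : A, f (g0 • x) - f 0 = g1 • x → ∀ w, g0⁻¹ • w ∈ C ↔ g1⁻¹ • (f w - f 0) ∈ C := by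
    intro g0 g1 e w
    obtain ⟨g, h1, h2⟩ := hf 0 (g0 • x) w
    rw [sub_zero] at h1 h2
    rw [e, ← mul_smul] at h1
    have e2 : g0⁻¹ • w = (g * g0)⁻¹ • (f w - f 0) := by
      rw [h2, mul_inv_rev, mul_smul, inv_smul_smul]
    rw [e2]
    exact ⟨wd _ _ h1.symm _, wd _ _ h1 _⟩
  have mem : ∀ y : MulAction.orbit A x, f y - f 0 ∈ MulAction.orbit A x := by
    rintro ⟨_, g0, rfl⟩
    obtain ⟨g, h1, -⟩ := hf 0 (g0 • x) 0
    exact ⟨g * g0, by rw [sub_zero, ← mul_smul] at h1; exact h1.symm⟩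
  have sur : Function.Surjective fun y : MulAction.orbit A x =>
      (⟨f y - f 0, mem y⟩ : MulAction.orbit A x) :=
    Finite.surjective_of_injective fun y y' e =>
      Subtype.ext (hi (sub_left_injective (congrArg Subtype.val e)))
  let D : AddSubgroup V :=
    { carrier := {w | ∀ g : A, g • w ∈ C}
      add_mem' := fun ha hb g => by rw [smul_add]; exact C.add_mem (ha g) (hb g)
      zero_mem' := fun g => by rw [smul_zero]; exact C.zero_mem
      neg_mem' := fun ha g => by rw [smul_neg]; exact C.neg_mem (ha g) }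
  have hD : D = ⊥ := (hirr D fun a w hw g => by rw [← mul_smul]; exact hw _).resolve_right
    fun e => by
      have : C = ⊤ := eq_top_iff.2 fun w _ => by
        have : w ∈ D := e ▸ AddSubgroup.mem_top w
        simpa using this 1
      rw [this, AddSubgroup.index_top] at hC
      exact absurd hC (by decide)
  rw [← sub_eq_zero, ← AddSubgroup.mem_bot, ← hD]
  intro g
  obtain ⟨⟨_, g0, rfl⟩, e⟩ := sur ⟨g⁻¹ • x, g⁻¹, rfl⟩
  have k := key g0 g⁻¹ (congrArg Subtype.val e)
  rw [inv_inv] at k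
  rw [smul_sub, sub_eq_add_neg, AddSubgroup.add_mem_iff_of_index_two hC, neg_mem_iff, ← k, smul_add,
    smul_add, AddSubgroup.add_mem_iff_of_index_two hC, AddSubgroup.add_mem_iff_of_index_two hC,
    ← k, ← k]

end Cfsg.Agent.CL3
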