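import Cfsg.Agent.CL3.B4m
import Cfsg.Agent.H11.BaseHeis5

set_option autoImplicit false

namespace Cfsg.Agent.CL3

universe u

open Cfsg.Agent.H11

variable {K B V G : Type*} [Field K] [Group B] [AddCommGroup V] [Module K V]
  [DistribMulAction B V] [Group G] [DistribMulAction G V]

theorem b4e_ne_two [Finite B] (H : Heis K B V G) (h2 : (2 : K) = 0) {x : V} (ω : B ⧸ H.Pc x) :
    orderOf ω ≠ 2 := by
  intro h
  obtain ⟨b, hb, k, hk⟩ := H.exists_rep ω (h ▸ Nat.prime_two)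
  have hp : b ∈ H.Pc x := H.mem_cent.2 fun t _ => by
    have h1 : H.cm t b ^ 2 = 1 := by rw [← H.cm_pow_right, ← h, hk, H.cm_sc_right]
    have h3 : (H.cm t b : K) ^ 2 = 1 := by rw [← Units.val_pow_eq_pow_val, h1, Units.val_one]
    have h4 : ((H.cm t b : K) - 1) ^ 2 = 0 := by
      linear_combination h3 + (1 - (H.cm t b : K)) * h2
    exact Units.ext (sub_eq_zero.1 (pow_eq_zero_iff two_ne_zero |>.1 h4))
  rw [← hb, (QuotientGroup.eq_one_iff _).2 hp, orderOf_one] at h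
  omega

theorem b4e_generic [Finite B] [Finite K] (H : Heis K B V G) (h2 : (2 : K) = 0) {x : V} (hx : x ≠ 0)
    {a : B} (ha : a ∈ H.Pc x)
    (hy0 : ∀ g : G, g • x = x → g • a • x = a • x → ∀ p ∈ H.Pc x, g • p • x = p • x)
    {γ : Kˣ} (hγ : ∀ r : ℕ, r.Prime → r ≠ 2 → γ ^ r ≠ 1) :
    ∃ y : V, ∀ g : G, g • x = x → g • y = y → H.α g = 1 := by
  classical
  obtain ⟨κ, k1, k2, k3, -⟩ := exists_col' (B ⧸ H.Pc x) (H.quot_comm x)
  haveI := Fintype.ofFinite (B ⧸ H.Pc x)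
  let τ : Fin 4 → Kˣ := fun c => if c = 0 then 1 else γ
  have hrep : ∀ ω : B ⧸ H.Pc x, ∃ b : B, (orderOf ω).Prime → (b : B ⧸ H.Pc x) = ω ∧
      ∃ u, b ^ orderOf ω = H.sc u ∧ colE (orderOf ω) u = τ (κ ω) ^ orderOf ω := by
    intro ω
    by_cases hω : (orderOf ω).Prime
    · obtain ⟨b, hb, u, hu⟩ := H.exists_rep ω hω
      obtain ⟨l, hl⟩ := exists_colE (orderOf ω) u (τ (κ ω))
      have hp : ∀ n, (H.sc l * b) ^ n = H.sc (l ^ n) * b ^ n := fun n => by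
        rw [H.mul_pow', H.cm_sc_right, one_pow, map_one, one_mul, map_pow]
      refine ⟨H.sc l * b, fun _ => ⟨?_, _, ?_, hl⟩⟩
      · rw [QuotientGroup.mk_mul, (QuotientGroup.eq_one_iff (N := H.Pc x) _).2 (H.sc_mem_cent _ _),
          one_mul, hb]
      · rw [hp, hu, map_mul]
    · exact ⟨1, fun h => absurd h hω⟩
  choose rep hrep using hrep
  let F : B ⧸ H.Pc x → V := fun ω => if ω = 1 then a • x else
    if (orderOf ω).Prime ∧ κ ω ≠ 2 then rep ω • x else 0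
  have hF : ∀ ω, H.Cp x ω (F ω) := by
    intro ω
    simp only [F]
    split_ifs with h h'
    · exact H.cp_smul (by rw [h, QuotientGroup.eq_one_iff]; exact ha) (H.self_mem_Eig _ _)
    · exact H.cp_smul (hrep ω h'.1).1 (H.self_mem_Eig _ _)
    · exact H.cp_zero _ _
  have hne : ∀ ω : B ⧸ H.Pc x, (orderOf ω).Prime → ω ≠ 1 := by
    rintro _ h rfl
    rw [orderOf_one] at h
    exact Nat.not_prime_one h
  have h0 : ∀ b : B, b • x ≠ 0 := fun b => by rwa [Ne, smul_eq_zero_iff_eq]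
  have e₁ : ∀ ω : B ⧸ H.Pc x, (orderOf ω).Prime → (F ω = 0 ↔ κ ω = 2) := by
    intro ω hω
    by_cases h : κ ω = 2 <;> simp [F, hne ω hω, hω, h, h0]
  have e₂ : ∀ ω : B ⧸ H.Pc x, (orderOf ω).Prime → κ ω ≠ 2 → F ω = rep ω • x := by
    intro ω hω h
    simp [F, hne ω hω, hω, h]
  refine ⟨∑ ω, F ω, fun g hg g1 => ?_⟩
  have c1 := H.comp_eq hg F hF g1
  have h1 := hy0 g hg (by simpa [F] using c1 1)
  have hfix := k2 (H.ab hg) (H.ab_inj hg) fun ω hω => by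
    have ho : orderOf (H.ab hg ω) = orderOf ω := orderOf_injective _ (H.ab_inj hg) ω
    have hω' : (orderOf (H.ab hg ω)).Prime := by rwa [ho]
    have a1 := e₁ _ hω'
    rw [← c1, smul_eq_zero_iff_eq, e₁ _ hω] at a1
    by_cases h : κ ω = 2
    · rw [h, a1.1 h]
    have h' : κ (H.ab hg ω) ≠ 2 := fun h' => h (a1.2 h')
    have a2 := c1 ω
    rw [e₂ _ hω h, e₂ _ hω' h'] at a2
    obtain ⟨-, u, hu, hu1⟩ := hrep ω hω
    obtain ⟨-, u', hu', hu2⟩ := hrep _ hω'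
    have k1' := k1 (H.ab hg ω)
    rw [ho] at hu' hu2 k1'
    have hr := b4e_ne_two H h2 ω
    have hre : orderOf ω ∣ (orderOf ω).choose 2 :=
      hω.dvd_choose_self two_ne_zero (lt_of_le_of_ne hω.two_le (Ne.symm hr))
    rw [H.inv_eq hx hg h1 hre ⟨u', hu'⟩ hu hu' a2, hu2] at hu1
    have g1 := hγ _ hω hr
    have k1'' := k1 ω hr
    have k1' := k1' hr
    simp only [τ] at hu1
    revert h h' hu1 k1' k1''
    generalize κ ω = i
    generalize κ (H.ab hg ω) = j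
    fin_cases i <;> fin_cases j <;> simp [g1, g1.symm]
  refine H.alpha_eq_one_of_col hx hg h1 κ k3 fun ω hω h2 => ⟨rep ω, (hrep ω hω).1, ?_⟩
  have a1 := c1 ω
  rwa [hfix ω hω, e₂ ω hω h2] at a1

theorem base4_even [Finite B] [Finite K] (H : Heis K B V G) (h2 : (2 : K) = 0) : Base4 H := by
  obtain ⟨γ, hγ⟩ := IsCyclic.exists_monoid_generator (α := Kˣ)
  by_cases h : ∃ r : ℕ, r.Prime ∧ r ≠ 2 ∧ γ ^ r = 1
  · obtain ⟨r, hr, hr2, h⟩ := h
    refine base4_mers H hr hr2 fun k => ?_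
    obtain ⟨n, rfl⟩ := hγ k
    show (γ ^ n) ^ r = 1
    rw [← pow_mul, mul_comm, pow_mul, h, one_pow]
  · obtain ⟨x, hx, a, ha, hy⟩ := H.exists_y0
    obtain ⟨y, hy⟩ := b4e_generic H h2 hx ha hy (γ := γ) fun r hr hr2 e => h ⟨r, hr, hr2, e⟩
    exact base4_of_base2 H hy

end Cfsg.Agent.CL3
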