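import Cfsg.Agent.CL3.Col

set_option autoImplicit false

namespace Cfsg.Agent.CL3

universe u

open Cfsg.Agent.H11

variable {K B V G : Type*} [Field K] [Group B] [AddCommGroup V] [Module K V]
  [DistribMulAction B V] [Group G] [DistribMulAction G V]

theorem base4_mers [Finite B] [Finite K] (H : Heis K B V G) {r : ℕ} (hr : r.Prime) (hr2 : r ≠ 2)
    (hk : ∀ k : Kˣ, k ^ r = 1) : Base4 H := by
  classical
  obtain ⟨x, hx, a, ha, hy0⟩ := H.exists_y0
  obtain ⟨T, e, e', hT, hφ, hcl⟩ := col2 (B ⧸ H.Pc x) (H.quot_comm x) hr hr2 (fun ω => by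
    obtain ⟨b, rfl⟩ := QuotientGroup.mk_surjective ω
    rw [← QuotientGroup.mk_pow, QuotientGroup.eq_one_iff]
    exact H.mem_cent.2 fun t _ => by rw [H.cm_pow_right, hk])
  haveI := Fintype.ofFinite (B ⧸ H.Pc x)
  let F : B ⧸ H.Pc x → V := fun ω => if ω = 1 then a • x else if ω ∈ T then 0 else ω.out • x
  have hF : ∀ ω, H.Cp x ω (F ω) := by
    intro ω
    simp only [F]
    split_ifs with h
    · exact H.cp_smul (by rw [h, QuotientGroup.eq_one_iff]; exact ha) (H.self_mem_Eig _ _)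
    · exact H.cp_zero _ _
    · exact H.cp_smul (QuotientGroup.out_eq' ω) (H.self_mem_Eig _ _)
  have h0 : ∀ b : B, b • x ≠ 0 := fun b => by rwa [Ne, smul_eq_zero_iff_eq]
  have hF0 : ∀ ω, F ω = 0 ↔ ω ∈ T := by
    intro ω
    simp only [F]
    split_ifs with h h'
    · exact ⟨fun h1 => absurd h1 (h0 a), fun h1 => absurd (h ▸ h1) hT⟩
    · exact ⟨fun _ => h', fun _ => rfl⟩
    · exact ⟨fun h1 => absurd h1 (h0 _), fun h1 => absurd h1 h'⟩
  have key : ∀ (g : G) (hg : g • x = x), g • ∑ ω, F ω = ∑ ω, F ω →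
      (∀ p ∈ H.Pc x, g • p • x = p • x) ∧ (∀ ω, H.ab hg ω ∈ T ↔ ω ∈ T) ∧
      (H.ab hg e = e → ∀ b : B, (b : B ⧸ H.Pc x) ∉ T → g • b • x = b • x) := by
    intro g hg hy
    have c := H.comp_eq hg F hF hy
    have h1 := hy0 g hg (by simpa [F] using c 1)
    have h2 : ∀ ω, H.ab hg ω ∈ T ↔ ω ∈ T := fun ω => by
      rw [← hF0, ← hF0, ← c, smul_eq_zero_iff_eq]
    refine ⟨h1, h2, fun he b hb => ?_⟩
    by_cases hb1 : (b : B ⧸ H.Pc x) = 1
    · exact h1 b ((QuotientGroup.eq_one_iff b).1 hb1)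
    · have h3 := c b
      rw [(hφ _ (H.ab_inj hg) h2).2 he] at h3
      simp only [F, if_neg hb1, if_neg hb] at h3
      exact H.gd_rep hg h1 (QuotientGroup.out_eq' _) h3
  have hinv : ∀ {g g' : G} {v : V}, g • v = g' • v → (g⁻¹ * g') • v = v := fun h => by
    rw [mul_smul, ← h, inv_smul_smul]
  rcases hcl with hcl | ⟨rfl, he, rfl, hall⟩
  · refine base4_of H (x := x) (y := ∑ ω, F ω) (ι := Prop) (by simp)
      (fun g => ((H.α g e.out : B) : B ⧸ H.Pc x) = e) fun g g' h1 h2 h3 h4 h5 => ?_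
    have k1 := hinv (h1.trans h3.symm)
    have k2 := hinv (h2.trans h4.symm)
    obtain ⟨p1, -, p3⟩ := key _ k1 k2
    have e1 : ∀ {g : G} (hg : g • x = x), H.ab hg e = (H.α g e.out : B) := fun hg => by
      rw [← H.ab_mk hg, QuotientGroup.out_eq']
    have e2 : H.ab h1 e = H.ab h3 e := by
      have a1 := (hφ _ (H.ab_inj h1) (key _ h1 h2).2.1).1
      have a2 := (hφ _ (H.ab_inj h3) (key _ h3 h4).2.1).1
      simp only [← e1 h1, ← e1 h3, eq_iff_iff] at h5
      rcases a1 with a1 | a1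
      · rw [a1, h5.1 a1]
      · rcases a2 with a2 | a2
        · rw [a2, h5.2 a2]
        · rw [a1, a2]
    have e3 : H.ab k1 e = e := by
      apply H.ab_inj h1
      rw [e2, e1 k1, e1 h3, H.ab_mk, ← MulAut.mul_apply, ← map_mul, mul_inv_cancel_left]
    have := hcl {ω | (g⁻¹ * g') • ω.out • x = ω.out • x}
      (fun ω hω => p3 e3 _ (by rwa [QuotientGroup.out_eq'])) (by
        intro a b c hb hc hbc hab hac habc
        refine H.gd_quad hx hb hc ?_ ?_ ?_ ?_ k1
        · exact H.gd_rep k1 p1 (by simp) hbc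
        · exact H.gd_rep k1 p1 (by simp) hab
        · exact H.gd_rep k1 p1 (by simp) hac
        · exact H.gd_rep k1 p1 (by simp) habc)
    exact H.alpha_eq_one hx fun b => H.gd_rep k1 p1 (QuotientGroup.out_eq' _) (this b)
  · have he3 : e ^ 3 = 1 := by
      obtain ⟨b, rfl⟩ := QuotientGroup.mk_surjective e
      rw [← QuotientGroup.mk_pow, QuotientGroup.eq_one_iff]
      exact H.mem_cent.2 fun t _ => by rw [H.cm_pow_right, hk]
    have hee : e⁻¹ * e⁻¹ = e := by
      rw [← mul_inv_rev, inv_eq_iff_mul_eq_one, ← he3, pow_succ, sq]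
    have hne : e⁻¹ ≠ e := fun h => he (by rw [← hee, h, ← he3]; nth_rewrite 1 [← hee]; rw [h, pow_succ, sq])
    set b : B := (e⁻¹).out with hb
    have hbe : (b : B ⧸ H.Pc x) = e⁻¹ := QuotientGroup.out_eq' _
    have key2 : ∀ (g : G) (hg : g • x = x), g • ∑ ω, F ω = ∑ ω, F ω → g • b • x = b • x ∧
        g • (b * b) • x = (H.cm (b⁻¹ * H.α g b) b : K) • (b * b) • x := by
      intro g hg hy
      obtain ⟨-, p2, p3⟩ := key g hg hy
      have q1 := p3 ((p2 e).2 rfl) b (by rw [hbe]; exact hne)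
      refine ⟨q1, ?_⟩
      rw [mul_smul, H.compat, q1]
      nth_rewrite 1 [← mul_inv_cancel_left b (H.α g b)]
      rw [mul_smul, H.cm_smul (b⁻¹ * H.α g b) b, (H.gd_iff hg b).1 q1, H.lin]
    refine base4_of H (x := x) (y := ∑ ω, F ω) (ι := Kˣ) ?_
      (fun g => H.cm (b⁻¹ * H.α g b) b) fun g g' h1 h2 h3 h4 h5 => ?_
    · obtain ⟨γ, hγ⟩ := IsCyclic.exists_generator (α := Kˣ)
      rw [← orderOf_eq_card_of_forall_mem_zpowers hγ]
      exact (orderOf_le_of_pow_eq_one (by norm_num) (hk γ)).trans (by norm_num)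
    have k1 := hinv (h1.trans h3.symm)
    have k2 := hinv (h2.trans h4.symm)
    have p1 := (key _ k1 k2).1
    have k3 : (g⁻¹ * g') • (b * b) • x = (b * b) • x :=
      hinv (by rw [(key2 g h1 h2).2, (key2 g' h3 h4).2, h5])
    refine H.alpha_eq_one hx fun c => ?_
    rcases hall c with h | h | h
    · exact p1 c ((QuotientGroup.eq_one_iff c).1 h)
    · exact H.gd_rep k1 p1 (by rw [h, QuotientGroup.mk_mul, hbe, hee]) k3
    · exact H.gd_rep k1 p1 (by rw [h, hbe]) (key2 _ k1 k2).1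

end Cfsg.Agent.CL3
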