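import Cfsg.Agent.CL3.Defs
import Cfsg.Agent.H11.BaseMod2

set_option autoImplicit false

namespace Cfsg.Agent.CL3

universe u

open Cfsg.Agent.H11 Cfsg.Agent.H11.Heis Cfsg.Agent.H11.BC

variable {K B V G : Type*} [Field K] [Group B] [AddCommGroup V] [Module K V]
  [DistribMulAction B V] [Group G] [DistribMulAction G V]

/-- assembly from a block with four colours -/
theorem b4o_block [Finite B] (H : Heis K B V G) (hsq : ∀ b : B, ∃ k, b ^ 2 = H.sc k) {x : V} (hx : x ≠ 0)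
    (a : Fin 4 → V) (ha : ∀ c, a c ∈ H.Eig (H.St x) x) (ha0 : ∀ c, a c ≠ 0)
    (hfree : ∀ p ∈ H.Pc x, p ∈ H.St (a 0) → p ∈ H.St x)
    (hne : ∀ c c', ∀ p ∈ H.Pc x, p • a c = a c' → c = c')
    (hdis : ∀ c c', c ≠ c' → ∀ p ∈ H.Pc x, p ∈ H.St (a c) → p ∈ H.St (a c') → p ∈ H.St x)
    {y₀ : V} (hy₀ : y₀ ∈ H.Eig (H.St x) x) :
    ∃ y : V, ∀ g : G, g • x = x → g • y = y → g • y₀ = y₀ ∧
      ((∀ p ∈ H.Pc x, g • p • x = p • x) → (∀ c, g • a c = a c) → H.α g = 1) := by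
  classical
  obtain ⟨κ, -, k2, -, k4⟩ := exists_col' (B ⧸ H.Pc x) (H.quot_comm x)
  haveI := Fintype.ofFinite (B ⧸ H.Pc x)
  let F : B ⧸ H.Pc x → V := fun ω => if ω = 1 then y₀ else ω.out • a (κ ω)
  have hF : ∀ ω, H.Cp x ω (F ω) := by
    intro ω
    simp only [F]
    split_ifs with h
    · rw [← one_smul B y₀]
      exact H.cp_smul (by rw [h]; rfl) hy₀
    · exact H.cp_smul (QuotientGroup.out_eq' ω) (ha _)
  have hn1 : ∀ ω : B ⧸ H.Pc x, (orderOf ω).Prime → ω ≠ 1 := by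
    rintro _ h rfl
    rw [orderOf_one] at h
    exact Nat.not_prime_one h
  refine ⟨∑ ω, F ω, fun g hg g1 => ?_⟩
  have c1 := H.comp_eq hg F hF g1
  refine ⟨by simpa [F] using c1 1, fun h1 h1' => ?_⟩
  have c2 : ∀ ω : B ⧸ H.Pc x, (orderOf ω).Prime →
      ((H.ab hg ω).out⁻¹ * H.α g ω.out) ∈ H.Pc x ∧
      ((H.ab hg ω).out⁻¹ * H.α g ω.out) • a (κ ω) = a (κ (H.ab hg ω)) := by
    intro ω hω
    have hω' : (orderOf (H.ab hg ω)).Prime := by rwa [orderOf_injective _ (H.ab_inj hg)]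
    constructor
    · rw [← QuotientGroup.eq, QuotientGroup.out_eq', ← H.ab_mk hg, QuotientGroup.out_eq']
    · have := c1 ω
      simp only [F, if_neg (hn1 _ hω), if_neg (hn1 _ hω')] at this
      rw [mul_smul, inv_smul_eq_iff, ← this, H.compat, h1']
  have hfix := k2 (H.ab hg) (H.ab_inj hg) fun ω hω => (hne _ _ _ (c2 ω hω).1 (c2 ω hω).2).symm
  have c3 : ∀ ω : B ⧸ H.Pc x, (orderOf ω).Prime → (ω.out⁻¹ * H.α g ω.out) ∈ H.Pc x ∧
      (ω.out⁻¹ * H.α g ω.out) • a (κ ω) = a (κ ω) := fun ω hω => by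
    have := c2 ω hω
    rwa [hfix ω hω] at this
  have hmul : ∀ b c : B, (b * c)⁻¹ * H.α g (b * c) =
      H.sc (H.cm c⁻¹ (b⁻¹ * H.α g b)) * ((b⁻¹ * H.α g b) * (c⁻¹ * H.α g c)) := by
    intro b c
    rw [map_mul, mul_inv_rev, ← mul_assoc (b⁻¹ * H.α g b), ← mul_assoc (H.sc _), ← H.cm_spec]
    simp only [mul_assoc]
  let S₀ : Subgroup B :=
    { carrier := {b | b⁻¹ * H.α g b ∈ H.St x}
      one_mem' := by simp [Subgroup.one_mem]
      mul_mem' := fun {b c} hb hc => by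
        show (b * c)⁻¹ * H.α g (b * c) ∈ H.St x
        rw [hmul]
        exact (H.St x).mul_mem (H.sc_mem_St _ _) ((H.St x).mul_mem hb hc)
      inv_mem' := fun {b} hb => by
        have := (H.normal_of_sc (H.sc_mem_St x)).conj_mem _ ((H.St x).inv_mem hb) (H.α g b)
        show b⁻¹⁻¹ * H.α g b⁻¹ ∈ H.St x
        rw [map_inv, inv_inv]
        simpa [mul_assoc] using this }
  have hPS : H.Pc x ≤ S₀ := fun p hp => H.mem_St_of hx (k := 1) (by
    rw [one_smul]; exact (H.gd_iff hg p).1 (h1 p hp))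
  have hS : ∀ b : B, (b : B ⧸ H.Pc x) ∈ S₀.map (QuotientGroup.mk' _) ↔ b ∈ S₀ := by
    intro b
    refine ⟨fun ⟨c, hc, h⟩ => ?_, fun h => ⟨b, h, rfl⟩⟩
    have : c⁻¹ * b ∈ H.Pc x := QuotientGroup.eq.1 h
    simpa using S₀.mul_mem hc (hPS this)
  have hst : ∀ ω : B ⧸ H.Pc x, orderOf ω = 2 → ω.out⁻¹ * H.α g ω.out ∈ H.St (a (κ ω)) :=
    fun ω hω => H.mem_St_of (ha0 _) (k := 1) (by
      rw [one_smul]; exact (c3 ω (hω ▸ Nat.prime_two)).2)
  have hall := k4 (S₀.map (QuotientGroup.mk' _)) (fun ω hω h => by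
    rw [← QuotientGroup.out_eq' ω, hS]
    exact hfree _ (c3 ω (hω ▸ Nat.prime_two)).1 (h ▸ hst ω hω)) (fun ω η hω hη h h' => by
    rw [← QuotientGroup.out_eq' ω, ← QuotientGroup.out_eq' η, ← QuotientGroup.mk_inv,
      ← QuotientGroup.mk_mul, hS] at h'
    rw [← QuotientGroup.out_eq' ω, hS]
    refine hdis _ _ h _ (c3 ω (hω ▸ Nat.prime_two)).1 (hst ω hω) ?_
    have e := hst η hη
    have e' := hmul ω.out (ω.out⁻¹ * η.out)
    rw [mul_inv_cancel_left] at e'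
    rw [e'] at e
    have hle := H.le_St_of_mem_Eig le_rfl (ha (κ η))
    have := (H.St _).mul_mem ((H.St _).mul_mem ((H.St _).inv_mem (H.sc_mem_St _
      (H.cm (ω.out⁻¹ * η.out)⁻¹ (ω.out⁻¹ * H.α g ω.out)))) e) ((H.St _).inv_mem (hle h'))
    simpa only [inv_mul_cancel_left, mul_inv_cancel_right] using this)
  refine H.alpha_eq_one_of_prime hx hg h1 fun ω hω => ⟨ω.out, QuotientGroup.out_eq' ω, ?_⟩
  have ho : orderOf ω = 2 := by
    obtain ⟨k, hk⟩ := hsq ω.out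
    refine (Nat.prime_dvd_prime_iff_eq hω Nat.prime_two).1 (orderOf_dvd_of_pow_eq_one ?_)
    rw [← QuotientGroup.out_eq' ω, ← QuotientGroup.mk_pow, hk, QuotientGroup.eq_one_iff]
    exact H.sc_mem_cent _ _
  have := hall ω ho
  rw [← QuotientGroup.out_eq' ω, hS] at this
  obtain ⟨k, hk⟩ := id this
  have e := ha (κ ω) _ this k hk
  rw [(c3 ω hω).2] at e
  obtain rfl : 1 = k := Heis.unit_eq (ha0 _) (by rw [← e, Units.val_one, one_smul])
  rw [H.gd_iff hg, hk, Units.val_one, one_smul]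

theorem b4o_mod [Finite B] {H : Heis K B V G} {x₀ : V} {X : Subgroup B} {W Q : Type*} [AddCommGroup W]
    {act : Q → W → W} (M : H.Mod x₀ X act) {p : ℕ} {std : List W} {co : W → List ℕ} {x : W}
    {a : Fin 4 → W} (hsq : ∀ b : B, ∃ k, b ^ 2 = H.sc k)
    (hK : ∀ k : K, ∃ n ∈ List.range p, k = n) (hco : Coord std co) (hC : Cols act p std x a) {y : W}
    {Sol : List (List W)} (h4 : Sol.length ≤ 4)
    (hS : ∀ T : W →+ W, BC.Nrm act x T → T y = y → ∃ f ∈ Sol, ∀ w, T w = comb (co w) f) :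
    Base4 H := by
  have hx : M.Φ x ≠ 0 := M.ne0 (hC.a0 ▸ hC.ne0 0)
  have hSt := M.St_eq hK hC
  have hPc : H.Pc (M.Φ x) = Subgroup.centralizer (X : Set B) := by rw [Pc, hSt]
  have hE : ∀ w, M.Φ w ∈ H.Eig (H.St (M.Φ x)) (M.Φ x) := fun w => by
    rw [hSt, H.Eig_eq M.hX (M.eig x) hx]
    exact M.eig w
  obtain ⟨Y, hY⟩ := b4o_block H hsq hx (fun c => M.Φ (a c)) (fun c => hE _)
    (fun c => M.ne0 (hC.ne0 c)) (fun q _ h => by rwa [hC.a0] at h) (fun c c' q hq h => by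
      obtain ⟨π, hπ⟩ := M.rep q (hPc ▸ hq)
      exact hC.ineq c c' π (M.inj (by rw [← hπ, h])))
    (fun c c' hc q hq h h' => by
      obtain ⟨π, hπ⟩ := M.rep q (hPc ▸ hq)
      obtain ⟨n, -, hn⟩ := hC.dis c c' hc π (M.scal hK hπ h) (M.scal hK hπ h')
      exact H.mem_St_of hx (k := (n : K)) (by rw [hπ, hn, map_nsmul, Nat.cast_smul_eq_nsmul])) (hE y)
  have k1 : ∀ g : G, g • M.Φ x = M.Φ x → g • Y = Y →
      ∃ i : Fin Sol.length, ∀ w, g • M.Φ w = M.Φ (comb (co w) (Sol.get i)) := fun g h1 h2 => by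
    obtain ⟨f, hf, h⟩ := M.sol hK hco hC hS h1 (hY g h1 h2).1
    obtain ⟨i, rfl⟩ := List.get_of_mem hf
    exact ⟨i, h⟩
  have k2 : ∀ g : G, ∃ i : Fin Sol.length, g • M.Φ x = M.Φ x → g • Y = Y →
      ∀ w, g • M.Φ w = M.Φ (comb (co w) (Sol.get i)) := fun g => by
    by_cases h : g • M.Φ x = M.Φ x ∧ g • Y = Y
    · obtain ⟨i, hi⟩ := k1 g h.1 h.2
      exact ⟨i, fun _ _ => hi⟩
    · obtain ⟨i, -⟩ := k1 1 (one_smul _ _) (one_smul _ _)
      exact ⟨i, fun h1 h2 => absurd ⟨h1, h2⟩ h⟩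
  choose t ht using k2
  refine base4_of H (x := M.Φ x) (y := Y) (by simpa using h4) t fun g g' h1 h2 h3 h5 e => ?_
  have hw : ∀ w, (g⁻¹ * g') • M.Φ w = M.Φ w := fun w => by
    rw [mul_smul, inv_smul_eq_iff, ht g h1 h2, ht g' h3 h5, e]
  refine (hY _ (hw x) (by rw [mul_smul, h5, inv_smul_eq_iff, h2])).2 (fun q hq => ?_) fun c => hw _
  obtain ⟨π, hπ⟩ := M.rep q (hPc ▸ hq)
  rw [hπ, hw]

theorem base4_odd [Finite B] [Finite K] (H : Heis K B V G) (h2 : (2 : K) ≠ 0) : Base4 H := by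
  obtain ⟨x, hx, hP⟩ := H.exists_struct
  by_cases hgen : (∃ γ : Kˣ, γ ^ 8 ≠ 1) ∨
      ∀ ω η : B ⧸ H.Pc x, orderOf ω = 2 → orderOf η = 2 → ω = η
  · obtain ⟨a, ha, hy⟩ := H.y0_of_struct hP
    obtain ⟨y, hy⟩ := H.base2_generic h2 hx.1 ha hy hgen
    exact base4_of_base2 H hy
  rw [not_or] at hgen
  obtain ⟨h8, hΩ⟩ := hgen
  push Not at h8
  have hm1 := neg_one_ne h2
  have hsq : ∀ b : B, ∃ k, b ^ 2 = H.sc k := by
    obtain ⟨m, hm, hpow⟩ := H.exists_sqf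
    intro b
    obtain ⟨k, hk⟩ := hpow b
    refine H.cen _ fun c => ?_
    rw [← H.cm_eq_one_iff, H.cm_pow_left, ← orderOf_dvd_iff_pow_eq_one]
    have h1 : orderOf (H.cm b c) ∣ m :=
      orderOf_dvd_of_pow_eq_one (by rw [← H.cm_pow_left, hk, H.cm_sc_left])
    have h3 : orderOf (H.cm b c) ∣ 2 ^ 3 := orderOf_dvd_of_pow_eq_one (h8 _)
    exact ((hm.squarefree_of_dvd h1).dvd_pow_iff_dvd (by norm_num)).1 h3
  obtain ⟨γ, hγ⟩ := IsCyclic.exists_monoid_generator (α := Kˣ)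
  have sq1 : ∀ k : Kˣ, k ^ 2 = 1 → k ≠ 1 → k = -1 := fun k h h' =>
    eq_of_sq_eq_one_cyclic h (by simp) h' hm1
  have plus : IsSquare (-1 : Kˣ) → H.Pc x = H.St x := fun hi => by
    rcases hP with h | ⟨-, -, -, -, -, -, -, -, -, -, h, -⟩
    · exact h
    · exact absurd hi h
  by_cases h4 : γ ^ 4 = 1
  swap
  · have h4' := sq1 (γ ^ 4) (by rw [← pow_mul]; exact h8 γ) h4
    obtain ⟨c, hc⟩ : ∃ c, c ∉ H.Pc x := by
      by_contra hn
      push Not at hn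
      refine hΩ fun ω η _ _ => ?_
      obtain ⟨c, rfl⟩ := QuotientGroup.mk_surjective ω
      obtain ⟨d, rfl⟩ := QuotientGroup.mk_surjective η
      exact QuotientGroup.eq.2 (hn _)
    obtain ⟨x', y', h'⟩ := H.base2_nine h2 hsq hx.1 (plus ⟨γ ^ 2, by rw [← h4', ← pow_add]⟩) hc hγ
      (by rw [← Units.val_pow_eq_pow_val, h4']; simp)
    exact base4_of_base2 H h'
  haveI := Fintype.ofFinite K
  have hcard : Fintype.card K = orderOf γ + 1 := by
    rw [orderOf_eq_card_of_forall_mem_powers hγ, Nat.card_units, Nat.card_eq_fintype_card]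
    have := Fintype.card_pos (α := K)
    omega
  by_cases h2' : γ ^ 2 = 1
  · have hγ1 : γ ≠ 1 := by
      rintro rfl
      obtain ⟨n, hn⟩ := hγ (-1)
      exact hm1 (by rw [← hn]; simp)
    have ho : orderOf γ = 2 := orderOf_eq_prime h2' hγ1
    rw [ho] at hcard
    let e := ZMod.ringEquivOfPrime K Nat.prime_three hcard
    have hK := hK_of e
    rcases hP with hP | ⟨a, ha, d, hd, δ, hδ, -, ha2, had, hdn, -, ⟨s, t, hst⟩, hP⟩
    · obtain ⟨M⟩ := H.mod_plus e hx.1 hP actS (by decide) (by decide) (by decide)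
      obtain ⟨X, ⟨M⟩⟩ := Mod.dbl2 H h2 hsq hx.1 M hΩ
      exact b4o_mod M hsq hK (coord2 3) colsP (by decide) rigP0
    · have hδ1 : δ = -1 := by
        obtain ⟨n, rfl⟩ := hγ δ
        refine sq1 _ (by rw [← pow_mul, mul_comm, pow_mul, h2', one_pow]) fun h => ?_
        obtain ⟨m, hm⟩ := hδ (-1)
        exact hm1 (by rw [← hm, h, one_pow])
      obtain ⟨M⟩ := H.mod_minus e hx.1 ha hd h2 (by rw [ha2, hδ1]; simp) had hdn hst hP
      obtain ⟨X, ⟨M⟩⟩ := Mod.dbl2 H h2 hsq hx.1 M hΩ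
      exact b4o_mod M hsq hK coord3 colsM (by decide) rigM0
  · have ho : orderOf γ = 2 ^ 2 := orderOf_eq_prime_pow (n := 1) (by simpa using h2') h4
    rw [ho] at hcard
    let e := ZMod.ringEquivOfPrime K Nat.prime_five hcard
    have hK := hK_of e
    have h4' := sq1 (γ ^ 2) (by rw [← pow_mul]; exact h4) h2'
    obtain ⟨M⟩ := H.mod_plus e hx.1 (plus ⟨γ, by rw [← h4', sq]⟩) actF (by decide) (by decide)
      (by decide)
    obtain ⟨X, ⟨M⟩⟩ := Mod.dbl2 H h2 hsq hx.1 M hΩ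
    exact b4o_mod M hsq hK (coord2 5) colsF (by decide) rigF0

end Cfsg.Agent.CL3
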