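import Cfsg.Agent.CL3.Defs

set_option autoImplicit false

namespace Cfsg.Agent.CL3

universe u

open Cfsg.Agent.H11

theorem col_ind {R : Type*} [Ring R] (h1 : (1 : R) ≠ 0) (h2 : (1 : R) + 1 ≠ 0) {p q u : Prop} [Decidable p]
    [Decidable q] [Decidable u]
    (h : (if p then (1 : R) else 0) + (if q then 1 else 0) = if u then 1 else 0) :
    ¬ (p ∧ q) ∧ (p → u) ∧ (q → u) := by
  by_cases hp : p <;> by_cases hq : q <;> by_cases hu : u <;> simp_all

theorem col_three : ∀ c : ZMod 3, c = 0 ∨ c = 1 ∨ c = -1 := by decide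

theorem col_vec (r : ℕ) [Fact r.Prime] (hr2 : r ≠ 2) (M : Type*) [AddCommGroup M] [Module (ZMod r) M]
    [Finite M] : ∃ (T : Set M) (e e' : M), (0 : M) ∉ T ∧
      (∀ φ : M →+ M, Function.Injective φ → (∀ ω, φ ω ∈ T ↔ ω ∈ T) →
        (φ e = e ∨ φ e = e') ∧ (φ e = e → ∀ ω, φ ω = ω)) ∧
      ((∀ S : Set M, (∀ ω, ω ∉ T → ω ∈ S) →
          (∀ a b c, b ∈ S → c ∈ S → b + c ∈ S → a + b ∈ S → a + c ∈ S → a + (b + c) ∈ S → a ∈ S) →
          ∀ ω, ω ∈ S) ∨
        (r = 3 ∧ e ≠ 0 ∧ T = {e} ∧ ∀ ω, ω = 0 ∨ ω = e ∨ ω = -e)) := by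
  classical
  set k := Module.finrank (ZMod r) M with hk
  let bs := Module.finBasis (ZMod r) M
  let e : ℕ → M := fun i => if h : i < k then bs ⟨i, h⟩ else 0
  let co : ℕ → M →+ ZMod r := fun i =>
    if h : i < k then (bs.coord ⟨i, h⟩).toAddMonoidHom else 0
  have hco : ∀ i j, j < k → co i (e j) = if i = j then 1 else 0 := by
    intro i j hj
    by_cases hi : i < k
    · simp only [co, e, dif_pos hi, dif_pos hj, LinearMap.toAddMonoidHom_coe, Module.Basis.coord_apply,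
        Module.Basis.repr_self, Finsupp.single_apply, Fin.mk.injEq]
      by_cases h : i = j
      · simp [h]
      · simp [h, Ne.symm h]
    · have : i ≠ j := by omega
      simp [co, hi, this]
  have hext : ∀ v w, (∀ l < k, co l v = co l w) → v = w := fun v w h => bs.ext_elem fun i => by
    have := h i i.2
    simpa only [co, dif_pos (show (i : ℕ) < k from i.2), LinearMap.toAddMonoidHom_coe, Module.Basis.coord_apply]
      using this
  have hspan : ∀ S : AddSubgroup M, (∀ i, i < k → e i ∈ S) → ∀ v, v ∈ S := by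
    intro S hS v
    rw [← bs.sum_repr v]
    refine S.sum_mem fun i _ => ?_
    have h1 : bs i = e i := by simp [e, show (i : ℕ) < k from i.2]
    rw [h1, ← ZMod.natCast_zmod_val (bs.repr v i), Nat.cast_smul_eq_nsmul]
    exact S.nsmul_mem (hS i i.2) _
  have he0 : ∀ i, ¬ i < k → e i = 0 := fun i hi => dif_neg hi
  clear_value e co
  clear bs
  have h10 : (1 : ZMod r) ≠ 0 := one_ne_zero
  have h2 : (1 : ZMod r) + 1 ≠ 0 := by
    intro h
    have : ((2 : ℕ) : ZMod r) = 0 := by rw [Nat.cast_ofNat, ← h, one_add_one_eq_two]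
    rw [ZMod.natCast_eq_zero_iff] at this
    exact hr2 ((Nat.prime_dvd_prime_iff_eq Fact.out Nat.prime_two).1 this)
  have heinj : ∀ i j, i < k → j < k → e i = e j → i = j := by
    intro i j hi hj h
    have := hco i j hj
    rw [← h, hco i i hi] at this
    by_contra hn
    simp [hn] at this
  let T : Set M := {v | ∃ a b, a ≤ b ∧ b ≤ a + 1 ∧ b < k ∧ ∀ l, co l v = if a ≤ l ∧ l ≤ b then 1 else 0}
  have hE : ∀ i, i < k → e i ∈ T := fun i hi => ⟨i, i, le_rfl, by omega, hi, fun l => by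
    rw [hco l i hi]
    exact if_congr (by omega) rfl rfl⟩
  have hS : ∀ i, i + 1 < k → e i + e (i + 1) ∈ T := fun i hi => ⟨i, i + 1, by omega, le_rfl, hi, fun l => by
    rw [map_add, hco l i (by omega), hco l _ hi]
    split_ifs <;> first | omega | simp⟩
  have hT : ∀ v ∈ T, (∃ i < k, v = e i) ∨ ∃ i, i + 1 < k ∧ v = e i + e (i + 1) := by
    rintro v ⟨a, b, h1, h3, h4, h5⟩
    by_cases hab : a = b
    · refine Or.inl ⟨b, h4, hext _ _ fun l _ => ?_⟩
      rw [h5, hco l b h4]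
      exact if_congr (by omega) rfl rfl
    · obtain rfl : b = a + 1 := by omega
      refine Or.inr ⟨a, h4, hext _ _ fun l _ => ?_⟩
      rw [h5, map_add, hco l a (by omega), hco l _ h4]
      split_ifs <;> first | omega | simp
  have h0 : (0 : M) ∉ T := by
    rintro ⟨a, b, h1, -, -, h5⟩
    have := h5 a
    rw [map_zero, if_pos ⟨le_rfl, h1⟩] at this
    exact h10 this.symm
  have hneg : ∀ v l, co l v = -1 → v ∉ T := by
    rintro v l hl ⟨a, b, -, -, -, h5⟩
    have := h5 l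
    rw [hl] at this
    split_ifs at this
    · exact h2 (by linear_combination -this)
    · exact h10 (by linear_combination -this)
  have hadj : ∀ u ∈ T, ∀ v ∈ T, u + v ∈ T → ∃ a < k, ∃ b < k, u = e a ∧ v = e b ∧ (b = a + 1 ∨ a = b + 1) := by
    rintro u ⟨a, b, h1, h3, h4, h5⟩ v ⟨a', b', h1', h3', h4', h5'⟩ ⟨c, d, g1, g3, g4, g5⟩
    have key : ∀ l, ¬ ((a ≤ l ∧ l ≤ b) ∧ a' ≤ l ∧ l ≤ b') ∧ ((a ≤ l ∧ l ≤ b) → c ≤ l ∧ l ≤ d) ∧
        ((a' ≤ l ∧ l ≤ b') → c ≤ l ∧ l ≤ d) := fun l => col_ind h10 h2 (by rw [← h5, ← h5', ← g5, map_add])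
    have k1 := key a
    have k2 := key b
    have k3 := key a'
    have k4 := key b'
    refine ⟨b, h4, b', h4', hext _ _ fun l _ => ?_, hext _ _ fun l _ => ?_, by omega⟩
    · rw [h5, hco l b h4]
      exact if_congr (by omega) rfl rfl
    · rw [h5', hco l b' h4']
      exact if_congr (by omega) rfl rfl
  refine ⟨T, e 0, e (k - 1), h0, fun φ hφ hφT => ⟨?_, fun h1 => ?_⟩, ?_⟩
  · by_cases hk0 : 0 < k
    swap
    · left; rw [he0 0 hk0, map_zero]
    by_cases hk1 : 1 < k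
    swap
    · rcases hT _ ((hφT _).2 (hE 0 hk0)) with ⟨i, hi, h⟩ | ⟨i, hi, -⟩
      · left; rw [h, show i = 0 by omega]
      · omega
    obtain ⟨a, ha, -, -, h, -⟩ := hadj _ ((hφT _).2 (hE 0 hk0)) _ ((hφT _).2 (hE 1 hk1))
      (by rw [← map_add]; exact (hφT _).2 (hS 0 hk1))
    by_contra hn
    rw [h, not_or] at hn
    have a0 : a ≠ 0 := fun e => hn.1 (by rw [e])
    have a1 : a ≠ k - 1 := fun e => hn.2 (by rw [e])
    have key : ∀ j < k, e a + e j ∈ T → φ (e 1) = e j := fun j hj hj' => by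
      obtain ⟨u, hu⟩ := Finite.surjective_of_injective hφ (e j)
      obtain ⟨c, hc, d, hd, e1, e2, e3⟩ := hadj _ (hE 0 hk0) u ((hφT _).1 (hu ▸ hE j hj))
        ((hφT _).1 (by rw [map_add, h, hu]; exact hj'))
      have := heinj _ _ hk0 hc e1
      rw [← hu, e2, show d = 1 by omega]
    obtain ⟨a, rfl⟩ : ∃ a', a = a' + 1 := ⟨a - 1, by omega⟩
    have := heinj _ _ (by omega) (by omega) ((key a (by omega) (add_comm (e a) _ ▸ hS a ha)).symm.trans
      (key (a + 1 + 1) (by omega) (hS (a + 1) (by omega))))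
    omega
  · have key : ∀ i, i < k → φ (e i) = e i := by
      intro i
      induction i using Nat.strong_induction_on with
      | _ i ih =>
        intro hi
        rcases i with _ | i
        · exact h1
        obtain ⟨a, ha, b, hb, e1, e2, e3⟩ := hadj _ ((hφT _).2 (hE i (by omega))) _ ((hφT _).2 (hE _ hi))
          (by rw [← map_add]; exact (hφT _).2 (hS i hi))
        rw [ih i (by omega) (by omega)] at e1
        obtain rfl := heinj _ _ (by omega) ha e1
        rcases e3 with rfl | e3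
        · exact e2
        · have := heinj _ _ hi hb (hφ (e2.trans (ih b (by omega) hb).symm))
          omega
    exact hspan (φ.eqLocus (AddMonoidHom.id M)) key
  by_cases hk1 : k = 1 ∧ r = 3
  · obtain ⟨hk1, rfl⟩ := hk1
    refine Or.inr ⟨rfl, fun h => h0 (h ▸ hE 0 (by omega)), Set.ext fun v => ⟨fun hv => ?_, fun hv => ?_⟩, fun v => ?_⟩
    · rcases hT v hv with ⟨i, hi, h⟩ | ⟨i, hi, -⟩
      · rw [h, show i = 0 by omega]; rfl
      · omega
    · rw [show v = e 0 from hv]; exact hE 0 (by omega)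
    · rcases col_three (co 0 v) with h | h | h
      · exact Or.inl (hext _ _ fun l hl => by rw [show l = 0 by omega, h, map_zero])
      · exact Or.inr (Or.inl (hext _ _ fun l hl => by rw [show l = 0 by omega, h, hco 0 0 (by omega), if_pos rfl]))
      · exact Or.inr (Or.inr (hext _ _ fun l hl => by
          rw [show l = 0 by omega, h, map_neg, hco 0 0 (by omega), if_pos rfl]))
  refine Or.inl fun S hS1 hS2 => ?_
  have hn : ∀ i < k, -e i ∈ S := fun i hi => hS1 _ (hneg _ i (by rw [map_neg, hco i i hi, if_pos rfl]))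
  have hz : (0 : M) ∈ S := hS1 _ h0
  have hES : ∀ i < k, e i ∈ S := by
    intro i hi
    by_cases hk2 : 1 < k
    · obtain ⟨j, hj, hij⟩ : ∃ j < k, i ≠ j := by
        by_cases h : i = 0
        exacts [⟨1, hk2, by omega⟩, ⟨0, by omega, h⟩]
      refine hS2 _ (-e j) (-e i) (hn j hj) (hn i hi) (hS1 _ (hneg _ i ?_)) (hS1 _ (hneg _ j ?_))
        (by rwa [add_neg_cancel]) (by rw [show e i + (-e j + -e i) = -e j by abel]; exact hn j hj)
      · simp [hco _ _ hi, hco _ _ hj, hij]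
      · simp [hco _ _ hi, hco _ _ hj, hij.symm]
    · refine hS2 _ (-e i) (-e i) (hn i hi) (hn i hi) (hS1 _ fun h => ?_) (by rwa [add_neg_cancel])
        (by rwa [add_neg_cancel]) (by rw [show e i + (-e i + -e i) = -e i by abel]; exact hn i hi)
      rcases hT _ h with ⟨j, hj, h'⟩ | ⟨j, hj, -⟩
      · obtain rfl : j = i := by omega
        have h3 := congrArg (co j) h'
        rw [map_add, map_neg, hco j j hj, if_pos rfl] at h3
        have : ((3 : ℕ) : ZMod r) = 0 := by rw [Nat.cast_ofNat]; linear_combination -h3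
        rw [ZMod.natCast_eq_zero_iff] at this
        exact hk1 ⟨by omega, (Nat.prime_dvd_prime_iff_eq Fact.out Nat.prime_three).1 this⟩
      · omega
  intro v
  by_cases hv : v ∈ T
  swap
  · exact hS1 v hv
  rcases hT v hv with ⟨i, hi, rfl⟩ | ⟨i, hi, rfl⟩
  · exact hES i hi
  have hi' : i < k := by omega
  refine hS2 _ (-e i) (-(e i + e (i + 1))) (hn i hi') (hS1 _ (hneg _ i ?_)) (hS1 _ (hneg _ (i + 1) ?_))
    (by rw [show e i + e (i + 1) + -e i = e (i + 1) by abel]; exact hES _ hi) (by rwa [add_neg_cancel])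
    (by rw [show e i + e (i + 1) + (-e i + -(e i + e (i + 1))) = -e i by abel]; exact hn i hi')
  · simp [hco _ _ hi, hco _ _ hi']
  · simp [hco _ _ hi, hco _ _ hi']

theorem col_comm (Ω : Type*) [CommGroup Ω] [Finite Ω] {r : ℕ} (hr : r.Prime)
    (hr2 : r ≠ 2) (he : ∀ ω : Ω, ω ^ r = 1) :
    ∃ (T : Set Ω) (e e' : Ω), (1 : Ω) ∉ T ∧
      (∀ φ : Ω →* Ω, Function.Injective φ → (∀ ω, φ ω ∈ T ↔ ω ∈ T) →
        (φ e = e ∨ φ e = e') ∧ (φ e = e → ∀ ω, φ ω = ω)) ∧
      ((∀ S : Set Ω, (∀ ω, ω ∉ T → ω ∈ S) →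
          (∀ a b c, b ∈ S → c ∈ S → b * c ∈ S → a * b ∈ S → a * c ∈ S → a * (b * c) ∈ S → a ∈ S) →
          ∀ ω, ω ∈ S) ∨
        (r = 3 ∧ e ≠ 1 ∧ T = {e} ∧ ∀ ω, ω = 1 ∨ ω = e ∨ ω = e⁻¹)) := by
  haveI := Fact.mk hr
  letI : Module (ZMod r) (Additive Ω) := AddCommGroup.zmodModule (fun x => he x.toMul)
  obtain ⟨T, e, e', h1, h2, h3⟩ := col_vec r hr2 (Additive Ω)
  exact ⟨T, e, e', h1, fun φ hφ hT => h2 (MonoidHom.toAdditive φ) hφ hT, h3⟩

theorem col2 (Ω : Type*) [Group Ω] [Finite Ω] (hc : ∀ a b : Ω, a * b = b * a) {r : ℕ} (hr : r.Prime)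
    (hr2 : r ≠ 2) (he : ∀ ω : Ω, ω ^ r = 1) :
    ∃ (T : Set Ω) (e e' : Ω), (1 : Ω) ∉ T ∧
      (∀ φ : Ω →* Ω, Function.Injective φ → (∀ ω, φ ω ∈ T ↔ ω ∈ T) →
        (φ e = e ∨ φ e = e') ∧ (φ e = e → ∀ ω, φ ω = ω)) ∧
      ((∀ S : Set Ω, (∀ ω, ω ∉ T → ω ∈ S) →
          (∀ a b c, b ∈ S → c ∈ S → b * c ∈ S → a * b ∈ S → a * c ∈ S → a * (b * c) ∈ S → a ∈ S) →
          ∀ ω, ω ∈ S) ∨
        (r = 3 ∧ e ≠ 1 ∧ T = {e} ∧ ∀ ω, ω = 1 ∨ ω = e ∨ ω = e⁻¹)) :=
  @col_comm Ω { ‹Group Ω› with mul_comm := hc } _ r hr hr2 he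

end Cfsg.Agent.CL3
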