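import Cfsg.Agent.H11.BaseHeis4
import Cfsg.Agent.H33.OutA

/-! The 3-closure of a solvable permutation group is solvable: definitions. -/

set_option autoImplicit false

namespace Cfsg.Agent.CL3

universe u

open Cfsg.Agent.H11

/-- every element of `H` agrees on each triple with an element of `G` -/
def Cl3 (G H Ω : Type*) [Group G] [Group H] [MulAction G Ω] [MulAction H Ω] : Prop :=
  ∀ (h : H) (a b c : Ω), ∃ g : G, g • a = h • a ∧ g • b = h • b ∧ g • c = h • c

/-- `H` acts on `Ω` as a solvable group -/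
def SolOn (H Ω : Type*) [Group H] [MulAction H Ω] : Prop :=
  ∃ n, ∀ h ∈ derivedSeries H n, ∀ a : Ω, h • a = a

/-- the theorem below degree `n` -/
def P (n : ℕ) : Prop := ∀ (Ω G H : Type u) [Finite Ω] [Group G] [Group H] [MulAction G Ω]
  [MulAction H Ω], Nat.card Ω < n → Group.IsSolvable G → Cl3 G H Ω → SolOn H Ω

/-- `f` agrees on each triple with an affine map whose linear part comes from `A` -/
def Dif (A : Type*) {V : Type*} [Group A] [AddCommGroup V] [DistribMulAction A V] (f : V → V) : Prop :=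
  ∀ a b c : V, ∃ g : A, f b - f a = g • (b - a) ∧ f c - f a = g • (c - a)

/-- `H` lies in the 3-closure of the affine group `V ⋊ A` -/
def AffCl (A H V : Type*) [Group A] [AddCommGroup V] [DistribMulAction A V] [Group H]
    [MulAction H V] : Prop := ∀ h : H, Dif A (fun v : V => h • v)

/-- the theorem for primitive affine groups of degree `n` -/
def AffSt (n : ℕ) : Prop := ∀ (V A H : Type u) [AddCommGroup V] [Finite V] [Nontrivial V] [Group A]
  [Finite A] [DistribMulAction A V] [Group H] [MulAction H V], Nat.card V = n →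
  Group.IsSolvable A → H33.Irr A V → AffCl A H V → SolOn H V

/-- a direct decomposition of `V` into at least two summands permuted by `A` -/
structure Dec (A V J : Type*) [Group A] [AddCommGroup V] [DistribMulAction A V] [Fintype J]
    [MulAction A J] where
  π : J → V →+ V
  sum : ∀ v, ∑ j, π j v = v
  orth : ∀ i j v, i ≠ j → π i (π j v) = 0
  eqv : ∀ (a : A) j v, π (a • j) (a • v) = a • π j v
  ne : ∀ j, ∃ v, π j v ≠ 0
  two : ∃ i j : J, i ≠ j

/-- `t` agrees on each pair with an element of `G` -/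
def Cl2 (G : Type*) {V : Type*} [Group G] [AddCommGroup V] [DistribMulAction G V] (t : V ≃+ V) : Prop :=
  ∀ u v : V, ∃ g : G, g • u = t u ∧ g • v = t v

/-- the linear 2-closure -/
def clo (G V : Type*) [Group G] [AddCommGroup V] [DistribMulAction G V] : Subgroup (V ≃ₗ[ℤ] V) where
  carrier := {t | Cl2 G t.toAddEquiv}
  one_mem' := fun _ _ => ⟨1, one_smul _ _, one_smul _ _⟩
  mul_mem' := fun {s t} hs ht u v => by
    obtain ⟨g, h1, h2⟩ := ht u v
    obtain ⟨g', h3, h4⟩ := hs (t u) (t v)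
    exact ⟨g' * g, by rw [mul_smul, h1]; exact h3, by rw [mul_smul, h2]; exact h4⟩
  inv_mem' := fun {t} ht u v => by
    obtain ⟨g, h1, h2⟩ := ht (t.symm u) (t.symm v)
    refine ⟨g⁻¹, inv_smul_eq_iff.2 ?_, inv_smul_eq_iff.2 ?_⟩
    · exact ((h1.trans (t.apply_symm_apply u))).symm
    · exact ((h2.trans (t.apply_symm_apply v))).symm

theorem mem_clo {G V : Type*} [Group G] [AddCommGroup V] [DistribMulAction G V] {t : V ≃ₗ[ℤ] V} :
    t ∈ clo G V ↔ ∀ u v : V, ∃ g : G, g • u = t u ∧ g • v = t v := Iff.rfl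

/-- whatever commutes with `B` is a scalar -/
def Cen (K B V : Type*) [Field K] [Group B] [AddCommGroup V] [Module K V] [DistribMulAction B V] : Prop :=
  ∀ γ : V ≃+ V, (∀ (b : B) (v : V), γ (b • v) = b • γ v) → ∃ k : K, ∀ v, γ v = k • v

/-- every non-zero orbit of `B` spans -/
def Spn (K B V : Type*) [Field K] [Group B] [AddCommGroup V] [Module K V] [DistribMulAction B V] : Prop :=
  ∀ x : V, x ≠ 0 → Submodule.span K (Set.range fun b : B => b • x) = ⊤

/-- semilinear -/
def Semi (K : Type*) {V : Type*} [Field K] [AddCommGroup V] [Module K V] (t : V ≃+ V) : Prop :=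
  ∃ σ : K ≃+* K, ∀ (k : K) (v : V), t (k • v) = σ k • t v

/-- `t` conjugates `b` into `B` -/
def Nrm {B V : Type*} [Group B] [AddCommGroup V] [DistribMulAction B V] (t : V ≃+ V) (b : B) : Prop :=
  ∃ c : B, ∀ v : V, t (b • v) = c • t v

section
variable {K B V G : Type*} [Field K] [Group B] [AddCommGroup V] [Module K V]
  [DistribMulAction B V] [Group G] [DistribMulAction G V]

/-- invariant abelian subgroups of `B` consist of scalars -/
def Ab (H : Heis K B V G) : Prop :=
  ∀ D : Subgroup B, (∀ g, ∀ d ∈ D, H.α g d ∈ D) → (∀ a ∈ D, ∀ b ∈ D, a * b = b * a) →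
    ∀ d ∈ D, ∃ k, d = H.sc k

/-- the stabiliser of two vectors induces at most four automorphisms of `B` -/
def Base4 (H : Heis K B V G) : Prop :=
  ∃ (x y : V) (t : G → Fin 4), ∀ g g' : G, g • x = x → g • y = y → g' • x = x → g' • y = y →
    t g = t g' → H.α g = H.α g'

theorem base4_of (H : Heis K B V G) {x y : V} {ι : Type*} [Finite ι] (hι : Nat.card ι ≤ 4) (t : G → ι)
    (h : ∀ g g' : G, g • x = x → g • y = y → g' • x = x → g' • y = y → t g = t g' →
      H.α (g⁻¹ * g') = 1) : Base4 H := by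
  haveI := Fintype.ofFinite ι
  obtain ⟨e⟩ := Function.Embedding.nonempty_of_card_le (α := ι) (β := Fin 4)
    (by rwa [Fintype.card_fin, ← Nat.card_eq_fintype_card])
  refine ⟨x, y, fun g => e (t g), fun g g' h1 h2 h3 h4 h5 => ?_⟩
  have := h g g' h1 h2 h3 h4 (e.injective h5)
  rwa [map_mul, map_inv, inv_mul_eq_one] at this

theorem base4_of_base2 (H : Heis K B V G) {x y : V}
    (h : ∀ g : G, g • x = x → g • y = y → H.α g = 1) : Base4 H :=
  ⟨x, y, fun _ => 0, fun g g' h1 h2 h3 h4 _ => (h g h1 h2).trans (h g' h3 h4).symm⟩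

theorem Cl2.symm {t : V ≃+ V} (h : Cl2 G t) : Cl2 G t.symm := fun u v => by
  obtain ⟨g, h1, h2⟩ := h (t.symm u) (t.symm v)
  exact ⟨g⁻¹, inv_smul_eq_iff.2 (h1.trans (t.apply_symm_apply u)).symm,
    inv_smul_eq_iff.2 (h2.trans (t.apply_symm_apply v)).symm⟩

theorem Cl2.comp {t : V ≃+ V} (h : Cl2 G t) (g₀ : G) :
    Cl2 G (t.trans (DistribMulAction.toAddEquiv V g₀)) := fun u v => by
  obtain ⟨g, h1, h2⟩ := h u v
  exact ⟨g₀ * g, by rw [mul_smul, h1]; rfl, by rw [mul_smul, h2]; rfl⟩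

theorem cl2_smul (g₀ : G) : Cl2 G (DistribMulAction.toAddEquiv V g₀) := fun _ _ => ⟨g₀, rfl, rfl⟩

end

section
variable {H : Type*} [Group H]

theorem ds_anti {m n : ℕ} (h : m ≤ n) : derivedSeries H n ≤ derivedSeries H m := by
  induction h with
  | refl => exact le_rfl
  | step _ ih => exact (derivedSeries_succ H _ ▸ Subgroup.commutator_le_left _ _).trans ih

theorem ds_fin {ι : Type*} [Finite ι] (Q : ι → H → Prop)
    (h : ∀ i, ∃ n, ∀ x ∈ derivedSeries H n, Q i x) : ∃ n, ∀ x ∈ derivedSeries H n, ∀ i, Q i x := by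
  choose n hn using h
  obtain ⟨m, hm⟩ := (Set.finite_range n).bddAbove
  exact ⟨m, fun x hx i => hn i x (ds_anti (hm ⟨i, rfl⟩) hx)⟩

theorem ds_ext {N : Subgroup H} {n : ℕ} (h : derivedSeries H n ≤ N) (m : ℕ) :
    derivedSeries H (n + m) ≤ (derivedSeries N m).map N.subtype := by
  induction m with
  | zero => exact fun x hx => ⟨⟨x, h hx⟩, Subgroup.mem_top _, rfl⟩
  | succ m ih =>
    rw [← Nat.add_assoc, derivedSeries_succ, derivedSeries_succ, Subgroup.map_commutator]
    exact Subgroup.commutator_mono ih ih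

theorem ds_hom {X : Type*} [Group X] (hX : Group.IsSolvable X) (f : H →* X) :
    ∃ n, ∀ x ∈ derivedSeries H n, f x = 1 := by
  obtain ⟨n, hn⟩ := hX
  refine ⟨n, fun x hx => ?_⟩
  have := map_derivedSeries_le_derivedSeries f n ⟨x, hx, rfl⟩
  rwa [hn, Subgroup.mem_bot] at this

theorem SolOn.ext {Ω : Type*} [MulAction H Ω] {N : Subgroup H} (h1 : ∃ n, derivedSeries H n ≤ N)
    (h2 : SolOn N Ω) : SolOn H Ω := by
  obtain ⟨n, hn⟩ := h1
  obtain ⟨m, hm⟩ := h2
  refine ⟨n + m, fun h hh a => ?_⟩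
  obtain ⟨x, hx, rfl⟩ := ds_ext hn m hh
  exact hm x hx a

theorem SolOn.isSolvable {Ω : Type*} [MulAction H Ω] [FaithfulSMul H Ω] (h : SolOn H Ω) :
    Group.IsSolvable H := by
  obtain ⟨n, hn⟩ := h
  exact ⟨⟨n, eq_bot_iff.2 fun x hx => Subgroup.mem_bot.2
    (eq_of_smul_eq_smul (α := Ω) fun a => (hn x hx a).trans (one_smul _ a).symm)⟩⟩

end

end Cfsg.Agent.CL3
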