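import Cfsg.Agent.CL3.Defs

set_option autoImplicit false

namespace Cfsg.Agent.CL3

universe u

open Cfsg.Agent.H11

open MulAction Pointwise in
theorem dich_dec {A V : Type u} [Group A] [AddCommGroup V] [DistribMulAction A V]
    (hirr : H33.Irr A V) {W : AddSubgroup V} (hW : W ≠ ⊥) (hW' : W ≠ ⊤) [Fintype (orbit A W)]
    (hind : ∀ f : orbit A W → V, (∀ ω, f ω ∈ ω.1) → ∑ ω, f ω = 0 → ∀ ω, f ω = 0) :
    Nonempty (Dec A V (orbit A W)) := by
  classical
  have hsm : ∀ (a : A) (f : orbit A W → V), (∀ ω, f ω ∈ ω.1) →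
      (∀ ω : orbit A W, a • f (a⁻¹ • ω) ∈ ω.1) ∧ ∑ ω, a • f (a⁻¹ • ω) = a • ∑ ω, f ω := by
    intro a f hf
    refine ⟨fun ω => ?_, ?_⟩
    · have := hf (a⁻¹ • ω)
      rwa [orbit.coe_smul, AddSubgroup.mem_pointwise_smul_iff_inv_smul_mem, inv_inv] at this
    · rw [Finset.smul_sum]
      exact Equiv.sum_comp (toPerm a⁻¹) fun ω => a • f ω
  have hsingle : ∀ (j : orbit A W), ∀ v ∈ j.1,
      ∀ ω : orbit A W, (Pi.single j v : orbit A W → V) ω ∈ ω.1 := by
    intro j v hv ω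
    rw [Pi.single_apply]
    split_ifs with e
    · rwa [e]
    · exact zero_mem _
  let U : AddSubgroup V :=
    { carrier := {v | ∃ f : orbit A W → V, (∀ ω, f ω ∈ ω.1) ∧ ∑ ω, f ω = v}
      zero_mem' := ⟨0, fun _ => zero_mem _, Finset.sum_const_zero⟩
      add_mem' := by
        rintro _ _ ⟨f, hf, rfl⟩ ⟨g, hg, rfl⟩
        exact ⟨f + g, fun ω => add_mem (hf ω) (hg ω), Finset.sum_add_distrib⟩
      neg_mem' := by
        rintro _ ⟨f, hf, rfl⟩
        exact ⟨-f, fun ω => neg_mem (hf ω), Finset.sum_neg_distrib _⟩ }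
  let ω₀ : orbit A W := ⟨W, mem_orbit_self W⟩
  obtain ⟨w, hw, hw0⟩ := (AddSubgroup.bot_or_exists_ne_zero W).resolve_left hW
  have hU : U = ⊤ := (hirr U (by
      rintro a _ ⟨f, hf, rfl⟩
      exact ⟨_, (hsm a f hf).1, (hsm a f hf).2⟩)).resolve_left fun e => hw0 (by
    rw [← AddSubgroup.mem_bot, ← e]
    exact ⟨Pi.single ω₀ w, hsingle ω₀ w hw, by simp⟩)
  choose F hF hF' using fun v : V => (hU.ge (AddSubgroup.mem_top v) : v ∈ U)
  have uniq : ∀ (v : V) (f : orbit A W → V), (∀ ω, f ω ∈ ω.1) → ∑ ω, f ω = v → F v = f := by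
    intro v f hf e
    funext ω
    exact sub_eq_zero.1 (hind (fun ω => F v ω - f ω) (fun ω => sub_mem (hF v ω) (hf ω))
      (by rw [Finset.sum_sub_distrib, hF', e, sub_self]) ω)
  have hone : ∀ (j : orbit A W), ∀ v ∈ j.1, F v = Pi.single j v := fun j v hv =>
    uniq v _ (hsingle j v hv) (by simp)
  refine ⟨{ π := fun j => AddMonoidHom.mk' (fun v => F v j) fun v v' => congrFun
              (uniq (v + v') (F v + F v') (fun ω => add_mem (hF v ω) (hF v' ω))
                (by simp only [Pi.add_apply, Finset.sum_add_distrib, hF'])) j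
            sum := hF'
            orth := fun i j v hij => ?_
            eqv := fun a j v => ?_
            ne := fun j => ?_
            two := ?_ }⟩
  · change F (F v j) i = 0
    rw [hone j _ (hF v j), Pi.single_eq_of_ne hij]
  · change F (a • v) (a • j) = a • F v j
    rw [uniq (a • v) _ (hsm a _ (hF v)).1 (by rw [(hsm a _ (hF v)).2, hF'])]
    simp only [inv_smul_smul]
  · obtain ⟨a, ha⟩ := j.2
    refine ⟨a • w, ?_⟩
    change F (a • w) j ≠ 0
    rw [hone j _ (ha ▸ AddSubgroup.smul_mem_pointwise_smul w a W hw), Pi.single_eq_same]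
    exact fun e => hw0 ((smul_eq_zero_iff_eq a).1 e)
  · by_contra h
    push Not at h
    refine hW' (eq_top_iff.2 fun v _ => ?_)
    rw [← hF' v]
    exact sum_mem fun ω _ => by
      have := hF v ω
      rwa [h ω ω₀] at this ⊢

open MulAction Pointwise in
theorem dich {A V : Type u} [Group A] [Finite A] [AddCommGroup V] [Finite V] [Nontrivial V]
    [DistribMulAction A V] (hirr : H33.Irr A V) :
    H33.Quasi A V ∨ ∃ (J : Type u) (_ : Fintype J) (_ : MulAction A J), Nonempty (Dec A V J) := by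
  classical
  refine or_iff_not_imp_left.2 fun hq => ?_
  simp only [H33.Quasi, not_forall] at hq
  obtain ⟨R, hc, hR, r₀, hr₀, hq⟩ := hq
  obtain ⟨W, ⟨h1, T, h2, h3⟩, h4⟩ := (Set.toFinite {W : AddSubgroup V | W ≠ ⊥ ∧ ∃ T ⊆ R,
    ∀ v, v ∈ W ↔ ∀ r ∈ T, r v = 0}).exists_minimal ⟨⊤, by simp, ∅, by simp⟩
  have h5 : ∀ r ∈ R, (∀ v ∈ W, r v = 0) ∨ ∀ v ∈ W, r v = 0 → v = 0 := fun r hr => by
    refine or_iff_not_imp_right.2 fun h v hv => (h4 (y := W ⊓ r.toAddMonoidHom.ker) ⟨fun e => h fun v hv h' =>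
      AddSubgroup.mem_bot.1 (e ▸ ⟨hv, h'⟩), insert r T, Set.insert_subset hr h2, fun v => ?_⟩ inf_le_left hv).2
    simp [h3, and_comm]
  have hW : W ≠ ⊤ := by
    rintro rfl
    obtain ⟨h, v, h', h''⟩ := hq
    exact h'' ((h5 r₀ hr₀).resolve_left (fun h' => h (LinearMap.ext fun v => h' v trivial)) v trivial h')
  have := Fintype.ofFinite (orbit A W)
  have h6 : ∀ ω : orbit A W, ∃ T ⊆ R, ∀ v, v ∈ ω.1 ↔ ∀ r ∈ T, r v = 0 := by
    rintro ⟨_, a, rfl⟩
    refine ⟨{s ∈ R | ∃ r ∈ T, ∀ v, s v = a • r (a⁻¹ • v)}, Set.sep_subset _ _, fun v => ?_⟩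
    rw [AddSubgroup.mem_pointwise_smul_iff_inv_smul_mem, h3]
    refine ⟨fun h s ⟨_, r, hr, e⟩ => by rw [e, h r hr, smul_zero], fun h r hr => ?_⟩
    obtain ⟨s, hs, e⟩ := hR a r (h2 hr)
    exact (smul_eq_zero_iff_eq a).1 ((e v).symm.trans (h s ⟨hs, r, hr, e⟩))
  have h7 : ∀ ω : orbit A W, ∀ r ∈ R, (∀ v ∈ ω.1, r v = 0) ∨ ∀ v ∈ ω.1, r v = 0 → v = 0 := by
    rintro ⟨_, a, rfl⟩ r hr
    obtain ⟨s, hs, e⟩ := hR a⁻¹ r hr
    simp only [AddSubgroup.mem_pointwise_smul_iff_inv_smul_mem]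
    exact (h5 s hs).imp (fun h v hv => by simpa [e, smul_eq_zero_iff_eq] using h _ hv) fun h v hv h' => by
      simpa [e, h', smul_eq_zero_iff_eq] using h _ hv
  have h8 : ∀ ω : orbit A W, Nat.card ω.1 = Nat.card W := by
    rintro ⟨_, a, rfl⟩
    exact AddSubgroup.card_map_of_injective (MulAction.injective a)
  refine ⟨orbit A W, this, inferInstance, dich_dec hirr h1 hW fun f hf e ω => ?_⟩
  suffices ∀ s : Finset (orbit A W), ω ∉ s → ∀ f : orbit A W → V, (∀ ω, f ω ∈ ω.1) → f ω + ∑ x ∈ s, f x = 0 → f ω = 0 from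
    this (Finset.univ.erase ω) (by simp) f hf (by rwa [Finset.add_sum_erase _ _ (Finset.mem_univ _)])
  intro s
  induction s using Finset.induction_on with
  | empty => simp
  | insert x s hx ih =>
    intro hω f hf e
    obtain ⟨T, h2, h3⟩ := h6 x
    obtain ⟨r, hr, h9⟩ : ∃ r ∈ T, ∀ v ∈ ω.1, r v = 0 → v = 0 := by
      by_contra! h
      refine hω (Finset.mem_insert.2 (.inl (Subtype.ext (AddSubgroup.eq_of_le_of_card_ge (fun v hv => (h3 v).2
        fun r hr => (h7 ω r (h2 hr)).resolve_right (by simpa using h r hr) v hv) (by rw [h8, h8])))))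
    refine h9 _ (hf ω) (ih (fun h => hω (Finset.mem_insert_of_mem h)) (fun y => r (f y)) (fun y => ?_) ?_)
    · obtain ⟨T', h2', h3'⟩ := h6 y
      exact (h3' _).2 fun s hs => by
        rw [← Module.End.mul_apply, hc s (h2' hs) r (h2 hr), Module.End.mul_apply, (h3' _).1 (hf y) s hs, map_zero]
    · simpa [Finset.sum_insert hx, (h3 _).1 (hf x) r hr] using congrArg r e

end Cfsg.Agent.CL3
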