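import Cfsg.Agent.CL3.Spn

/-! An invariant subgroup of index two in characteristic two. -/

set_option autoImplicit false

namespace Cfsg.Agent.CL3

universe u

open Cfsg.Agent.H11

variable {K B V G : Type*} [Field K] [Group B] [AddCommGroup V] [Module K V]
  [DistribMulAction B V] [Group G] [DistribMulAction G V]

theorem idx_wp [Finite K] (h2 : (2 : K) = 0) :
    ∃ R : AddSubgroup K, R.index = 2 ∧ ∀ c, c ∈ R ↔ ∃ k : K, k * k + k = c := by
  let w : K →+ K := AddMonoidHom.mk' (fun k => k * k + k) fun a b => by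
    linear_combination (a * b) * h2
  refine ⟨w.range, ?_, fun c => Iff.rfl⟩
  rw [AddSubgroup.index_range, Nat.card_eq_two_iff]
  refine ⟨0, ⟨1, (by linear_combination h2 : (1 : K) * 1 + 1 = 0)⟩,
    fun e => zero_ne_one (congrArg Subtype.val e), Set.eq_univ_of_forall fun ⟨k, hk⟩ => ?_⟩
  have hk' : k * k + k = 0 := hk
  have : k * (k - 1) = 0 := by linear_combination hk' - k * h2
  rcases mul_eq_zero.1 this with h | h
  · exact Or.inl (Subtype.ext h)
  · exact Or.inr (Subtype.ext (sub_eq_zero.1 h))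

theorem exists_idx [Finite B] [Finite K] (H : Heis K B V G) (h2 : (2 : K) = 0) (hs : Spn K B V) :
    ∃ (x : V) (C : AddSubgroup V), C.index = 2 ∧ ∀ g : G, g • x = x → ∀ u ∈ C, g • u ∈ C := by
  classical
  obtain ⟨x, hx, hP | ⟨_, -, _, -, _, -, h, -⟩⟩ := H.exists_struct
  swap
  · exact (h h2).elim
  have x0 := hx.1
  let X := MulAction.stabilizer B x
  haveI := Fintype.ofFinite X
  let e : V →ₗ[K] V := ∑ t : X, H.toLin t
  have he : ∀ u, e u = ∑ t : X, (t : B) • u := fun u => LinearMap.sum_apply _ _ u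
  have hc : ((Fintype.card X : ℕ) : K) = 1 := by
    have h0 : ((Fintype.card X : ℕ) : K) ≠ 0 := fun h0 => card_ne_zero H (by
      rw [← X.card_mul_index, Nat.cast_mul, Nat.card_eq_fintype_card, h0, zero_mul])
    rcases Nat.even_or_odd' (Fintype.card X) with ⟨m, hm | hm⟩
    · rw [hm, Nat.cast_mul, Nat.cast_ofNat, h2, zero_mul] at h0
      exact (h0 rfl).elim
    · rw [hm, Nat.cast_add, Nat.cast_mul, Nat.cast_ofNat, h2, zero_mul, zero_add, Nat.cast_one]
  have ex : e x = x := by
    rw [he, Finset.sum_congr rfl fun (t : X) _ => (t.2 : (t : B) • x = x), Finset.sum_const,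
      Finset.card_univ, ← Nat.cast_smul_eq_nsmul K, hc, one_smul]
  have hr : ∀ u, e u ∈ Submodule.span K {x} := fun u => by
    have : Submodule.span K (Set.range fun b : B => b • x) ≤ (Submodule.span K {x}).comap e := by
      rw [Submodule.span_le]
      rintro _ ⟨b, rfl⟩
      change e (b • x) ∈ Submodule.span K {x}
      let χ : X →* K := (Units.coeHom K).comp ((H.cmH.flip b).comp X.subtype)
      by_cases hχ : χ = 1
      · have hb : b ∈ H.Pc x := H.mem_cent.2 fun t ⟨k, hk⟩ => by
          have h1 : H.sc k⁻¹ * t ∈ X := by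
            change (H.sc k⁻¹ * t) • x = x
            rw [mul_smul, hk, H.sc_smul, smul_smul, Units.inv_mul, one_smul]
          have h4 : χ ⟨_, h1⟩ = 1 := by rw [hχ]; rfl
          have h3 : H.cm (H.sc k⁻¹ * t) b = 1 := Units.ext h4
          rwa [H.cm_mul_left, H.cm_sc_left, one_mul] at h3
        rw [hP] at hb
        obtain ⟨k, hk⟩ := hb
        rw [hk, map_smul, ex]
        exact Submodule.smul_mem _ _ (Submodule.mem_span_singleton_self x)
      · have h1 : ∀ t : X, (t : B) • b • x = χ t • b • x := fun t => by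
          rw [H.cm_smul, (t.2 : (t : B) • x = x)]
          rfl
        rw [he, Finset.sum_congr rfl fun t _ => h1 t, ← Finset.sum_smul,
          sum_hom_units_eq_zero χ hχ, zero_smul]
        exact zero_mem _
    rw [hs x x0] at this
    exact this Submodule.mem_top
  let l : V →ₗ[K] K := (LinearEquiv.coord K V x x0).toLinearMap.comp (e.codRestrict _ hr)
  have hl : ∀ u, l u • x = e u := fun u => LinearEquiv.coord_apply_smul K V x x0 ⟨e u, hr u⟩
  have hl' : ∀ u c, e u = c • x → l u = c := fun u c h =>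
    smul_left_injective K x0 ((hl u).trans h)
  obtain ⟨R, hR, hR'⟩ := idx_wp h2
  refine ⟨x, R.comap l.toAddMonoidHom, (R.index_comap_of_surjective fun c =>
    ⟨c • x, hl' _ _ (by rw [map_smul, ex])⟩).trans hR, fun g hg u hu => ?_⟩
  have hα : ∀ g : G, g • x = x → ∀ t ∈ X, H.α g t ∈ X := fun g hg t ht => by
    change H.α g t • x = x
    conv_lhs => rw [← hg]
    rw [← H.compat, (ht : t • x = x), hg]
  have hg' : g⁻¹ • x = x := by rw [inv_smul_eq_iff, hg]
  let σ : X ≃ X := ⟨fun t => ⟨_, hα g hg t t.2⟩, fun t => ⟨_, hα g⁻¹ hg' t t.2⟩,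
    fun t => Subtype.ext (H.alpha_inv g t), fun t => Subtype.ext (H.alpha_inv' g t)⟩
  have h1 : e (g • u) = g • e u := by
    rw [he, he, Finset.smul_sum, ← σ.sum_comp]
    exact Finset.sum_congr rfl fun t _ => (H.compat g t u).symm
  obtain ⟨k, hk⟩ := (hR' _).1 hu
  have hk' : e u = k • k • x + k • x := by
    rw [← hl, smul_smul, ← add_smul, hk]
    rfl
  refine (hR' _).2 ?_
  by_cases k0 : k = 0
  · exact ⟨0, (hl' _ _ (by rw [h1, hk', k0]; simp)).symm⟩
  · obtain ⟨k', hk2⟩ := H.exists_alpha_sc g (Units.mk0 k k0)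
    have h3 : ∀ v : V, g • k • v = (k' : K) • g • v := fun v => by
      rw [← H.sc_smul, ← hk2, ← H.compat, H.sc_smul, Units.val_mk0]
    exact ⟨k', (hl' _ _ (by rw [h1, hk', smul_add, h3, h3, hg, smul_smul, add_smul])).symm⟩

end Cfsg.Agent.CL3
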