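import Cfsg.Agent.CL3.Defs

set_option autoImplicit false

namespace Cfsg.Agent.CL3

universe u

open Cfsg.Agent.H11

section
variable {A V J : Type*} [Group A] [AddCommGroup V] [DistribMulAction A V] [Fintype J] [MulAction A J]
  (D : Dec A V J)

theorem Dec.idem (j : J) (v : V) : D.π j (D.π j v) = D.π j v := by
  conv_rhs => rw [← D.sum v, map_sum]
  exact (Finset.sum_eq_single j (fun i _ h => D.orth j i v h.symm) (by simp)).symm

/-- `v` is a non-zero element of the summand `j` -/
def Dec.On (j : J) (v : V) : Prop := v ≠ 0 ∧ D.π j v = v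

variable {D}

theorem Dec.On.ne {j : J} {v : V} (h : D.On j v) : D.π j v ≠ 0 := h.2.symm ▸ h.1

theorem Dec.On.zero {i j : J} {v : V} (h : D.On j v) (e : i ≠ j) : D.π i v = 0 := h.2 ▸ D.orth i j v e

theorem Dec.On.eq {i j : J} {v : V} (h : D.On j v) (h' : D.π i v ≠ 0) : i = j :=
  by_contra fun e => h' (h.zero e)

theorem Dec.On.neg {j : J} {v : V} (h : D.On j v) : D.On j (-v) := ⟨neg_ne_zero.2 h.1, by rw [map_neg, h.2]⟩

theorem Dec.On.smul {j : J} {v : V} (h : D.On j v) (g : A) : D.On (g • j) (g • v) :=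
  ⟨fun e => h.1 ((smul_eq_zero_iff_eq g).1 e), by rw [D.eqv, h.2]⟩

variable (D)

theorem Dec.on_pi {j : J} {v : V} (h : D.π j v ≠ 0) : D.On j (D.π j v) := ⟨h, D.idem j v⟩

theorem Dec.exists_on (j : J) : ∃ v, D.On j v := let ⟨_, h⟩ := D.ne j; ⟨_, D.on_pi h⟩

theorem Dec.exists_rho {f : V → V} (hf : Dif A f) (a : V) : ∃ ρ : J → J, Function.Injective ρ ∧
    ∀ j v, D.On j v → D.On (ρ j) (f (a + v) - f a) := by
  choose v hv using D.exists_on
  choose g hg using fun j => hf a (a + v j) (a + v j)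
  have k : ∀ j, D.On (g j • j) (f (a + v j) - f a) := fun j => by
    rw [(hg j).1, add_sub_cancel_left]; exact (hv j).smul _
  have k2 : ∀ j i w, D.On i w → ∃ c : A, g j • j = c • j ∧ D.On (c • i) (f (a + w) - f a) := fun j i w hw => by
    obtain ⟨c, h1, h2⟩ := hf a (a + v j) (a + w)
    rw [add_sub_cancel_left] at h1 h2
    exact ⟨c, ((hv j).smul c).eq (h1 ▸ (k j).ne), h2 ▸ hw.smul c⟩
  refine ⟨fun j => g j • j, fun j i e => ?_, fun j w hw => ?_⟩
  · obtain ⟨c, h1, h2⟩ := k2 j i _ (hv i)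
    exact smul_left_cancel c (h1.symm.trans (e.trans (h2.eq (k i).ne)))
  · obtain ⟨c, h1, h2⟩ := k2 j j w hw
    exact show D.On (g j • j) _ from h1 ▸ h2

end

theorem Dec.exists_perm {A V J : Type*} [Group A] [AddCommGroup V] [DistribMulAction A V] [Fintype J]
    [MulAction A J] (D : Dec A V J) {f : V → V} (hf : Dif A f) :
    ∃ ρ : Equiv.Perm J, ∀ (j : J) (a b : V),
      D.π (ρ j) (f a) = D.π (ρ j) (f b) ↔ D.π j a = D.π j b := by
  classical
  choose ρ inj hρ using D.exists_rho hf
  have s1 : ∀ a j w, D.On j w → ρ (a + w) j = ρ a j := fun a j w hw => by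
    have h := (hρ (a + w) j _ hw.neg).neg
    rw [add_neg_cancel_right, neg_sub] at h
    exact (hρ a j w hw).eq h.ne
  have s2 : ∀ a i j w, D.On i w → ρ (a + w) j = ρ a j := fun a i j w hw => by
    by_cases e : i = j
    · exact s1 a j w (e ▸ hw)
    obtain ⟨v, hv⟩ := D.exists_on j
    refine ((hρ (a + w) j v hv).eq fun h => (hρ a j v hv).ne ?_).symm
    have h1 := (hρ a i w hw).zero (i := ρ a j) fun h => e (inj a h).symm
    have h2 := (hρ (a + v) i w hw).zero (i := ρ a j) fun h => e (inj _ ((s1 a j v hv).trans h)).symm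
    rw [add_right_comm] at h2
    rw [map_sub, sub_eq_zero] at h h1 h2 ⊢
    rw [← h2, h, h1]
  have s3 : ∀ a j, ρ a j = ρ 0 j := fun a j => by
    have : ∀ s : Finset J, ρ (∑ i ∈ s, D.π i a) j = ρ 0 j := fun s => by
      induction s using Finset.induction_on with
      | empty => rfl
      | insert i s hi ih =>
        rw [Finset.sum_insert hi, add_comm]
        by_cases e : D.π i a = 0
        · rw [e, add_zero, ih]
        · rw [s2 _ i j _ (D.on_pi e), ih]
    rw [← this Finset.univ, D.sum]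
  have s4 : ∀ j a b, D.π j a = D.π j b → D.π (ρ 0 j) (f a) = D.π (ρ 0 j) (f b) := fun j a b h => by
    have : ∀ s : Finset J, D.π (ρ 0 j) (f a) = D.π (ρ 0 j) (f (a + ∑ i ∈ s, D.π i (b - a))) := fun s => by
      induction s using Finset.induction_on with
      | empty => rw [Finset.sum_empty, add_zero]
      | insert i s hi ih =>
        rw [Finset.sum_insert hi, add_comm (D.π i _), ← add_assoc]
        by_cases e : D.π i (b - a) = 0
        · rw [e, add_zero, ih]
        · have h1 := (hρ (a + ∑ i ∈ s, D.π i (b - a)) i _ (D.on_pi e)).zero (i := ρ 0 j) fun h' => e (by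
            rw [← inj 0 (h'.trans (s3 _ i)), map_sub, h, sub_self])
          rw [map_sub, sub_eq_zero] at h1
          rw [h1, ih]
    rw [this Finset.univ, D.sum, add_sub_cancel]
  refine ⟨Equiv.ofBijective (ρ 0) (Finite.injective_iff_bijective.1 (inj 0)), fun j a b => ⟨fun h => ?_, s4 j a b⟩⟩
  by_contra e
  have e' : D.π j (b - a) ≠ 0 := fun h => e (by rw [map_sub, sub_eq_zero] at h; exact h.symm)
  refine (hρ a j _ (D.on_pi e')).ne ?_
  rw [s3, map_sub, sub_eq_zero, s4 j _ b (by rw [map_add, D.idem, map_sub, add_sub_cancel])]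
  exact h.symm

end Cfsg.Agent.CL3
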