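import Cfsg.Agent.CL3.ImpA

set_option autoImplicit false

namespace Cfsg.Agent.CL3

universe u

open Cfsg.Agent.H11

section
variable {A V J : Type*} [Group A] [AddCommGroup V] [DistribMulAction A V] [Fintype J] [MulAction A J]
  (D : Dec A V J)

theorem Dec.perm_uniq {f : V → V} {ρ ρ' : Equiv.Perm J}
    (h : ∀ (j : J) (a b : V), D.π (ρ j) (f a) = D.π (ρ j) (f b) ↔ D.π j a = D.π j b)
    (h' : ∀ (j : J) (a b : V), D.π (ρ' j) (f a) = D.π (ρ' j) (f b) ↔ D.π j a = D.π j b) : ρ = ρ' := by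
  ext j
  obtain ⟨v, hv⟩ := D.exists_on j
  obtain ⟨k, hk⟩ := ρ'.surjective (ρ j)
  have h1 := mt (h j v 0).1 (by rw [map_zero]; exact hv.ne)
  rw [← hk, h', map_zero] at h1
  rw [← hk, hv.eq h1]

theorem Dec.two_sets {f : V → V} (hf : Dif A f) {ρ : Equiv.Perm J}
    (h : ∀ (j : J) (a b : V), D.π (ρ j) (f a) = D.π (ρ j) (f b) ↔ D.π j a = D.π j b) (S T : Finset J) :
    ∃ g : A, (∀ j ∈ S, g⁻¹ • ρ j ∈ S) ∧ (∀ j ∉ S, g⁻¹ • ρ j ∉ S) ∧ (∀ j ∈ T, g⁻¹ • ρ j ∈ T) ∧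
      ∀ j ∉ T, g⁻¹ • ρ j ∉ T := by
  choose v hv using D.exists_on
  have k : ∀ (S : Finset J) j, D.π j (∑ i ∈ S, v i) = 0 ↔ j ∉ S := fun S j => by
    rw [map_sum]
    constructor
    · intro e hj
      rw [Finset.sum_eq_single j (fun i _ h => (hv i).zero h.symm) fun h => absurd hj h] at e
      exact (hv j).ne e
    · exact fun hj => Finset.sum_eq_zero fun i hi => (hv i).zero fun e => hj (e ▸ hi)
  obtain ⟨g, h1, h2⟩ := hf 0 (∑ i ∈ S, v i) (∑ i ∈ T, v i)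
  have k2 : ∀ S : Finset J, f (∑ i ∈ S, v i) - f 0 = g • (∑ i ∈ S, v i - 0) → ∀ j, g⁻¹ • ρ j ∉ S ↔ j ∉ S :=
    fun S e j => by
      rw [← k, ← k, ← smul_eq_zero_iff_eq g, ← D.eqv, smul_inv_smul, ← sub_zero (∑ i ∈ S, v i), ← e, map_sub,
        sub_eq_zero, h, map_zero, sub_zero]
  exact ⟨g, fun j hj => not_not.1 fun e => (k2 S h1 j).1 e hj, fun j => (k2 S h1 j).2,
    fun j hj => not_not.1 fun e => (k2 T h2 j).1 e hj, fun j => (k2 T h2 j).2⟩

theorem Dec.three {f : V → V} (hf : Dif A f) {ρ : Equiv.Perm J}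
    (h : ∀ (j : J) (a b : V), D.π (ρ j) (f a) = D.π (ρ j) (f b) ↔ D.π j a = D.π j b) (a b c : J) :
    ∃ g : A, g • a = ρ a ∧ g • b = ρ b ∧ g • c = ρ c := by
  classical
  have two : ∀ a b : J, ∃ g : A, g • a = ρ a ∧ g • b = ρ b := fun a b => by
    obtain ⟨g, h1, -, h2, -⟩ := D.two_sets hf h {a} {b}
    exact ⟨g, (inv_smul_eq_iff.1 (Finset.mem_singleton.1 (h1 a (Finset.mem_singleton_self a)))).symm,
      (inv_smul_eq_iff.1 (Finset.mem_singleton.1 (h2 b (Finset.mem_singleton_self b)))).symm⟩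
  by_cases e1 : a = b
  · obtain ⟨g, h1, h2⟩ := two a c
    exact ⟨g, h1, e1 ▸ h1, h2⟩
  by_cases e2 : a = c
  · obtain ⟨g, h1, h2⟩ := two a b
    exact ⟨g, h1, h2, e2 ▸ h1⟩
  by_cases e3 : b = c
  · obtain ⟨g, h1, h2⟩ := two a b
    exact ⟨g, h1, h2, e3 ▸ h2⟩
  obtain ⟨g, h1, h2, h3, h4⟩ := D.two_sets hf h {a, c} {b, c}
  simp only [Finset.mem_insert, Finset.mem_singleton, not_or] at h1 h2 h3 h4
  refine ⟨g, (inv_smul_eq_iff.1 ?_).symm, (inv_smul_eq_iff.1 ?_).symm, (inv_smul_eq_iff.1 ?_).symm⟩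
  · exact (h1 a (.inl rfl)).resolve_right (h4 a ⟨e1, e2⟩).2
  · exact (h3 b (.inl rfl)).resolve_right (h2 b ⟨Ne.symm e1, e3⟩).2
  · exact (h1 c (.inr rfl)).elim (fun x => (h3 c (.inr rfl)).resolve_left fun y => e1 (x.symm.trans y)) id

include D in
theorem Dec.card_lt [Finite V] : Nat.card J < Nat.card V := by
  choose v hv using D.exists_on
  have : Function.Injective (fun o : Option J => o.elim 0 v) := by
    rintro (_ | i) (_ | j) e
    · rfl
    · exact absurd e.symm (hv j).1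
    · exact absurd e (hv i).1
    · exact congrArg some ((hv j).eq (by rw [← show v i = v j from e]; exact (hv i).ne))
  have := Nat.card_le_card_of_injective _ this
  rwa [Finite.card_option] at this

end

theorem Dec.top {n : ℕ} (hP : P.{u} n) {A V J H : Type u} [Group A] [AddCommGroup V] [Finite V]
    [DistribMulAction A V] [Fintype J] [MulAction A J] (D : Dec A V J) [Group H] [MulAction H V]
    (hn : Nat.card V = n) (hA : Group.IsSolvable A) (hc : AffCl A H V) :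
    ∃ m, ∀ h ∈ derivedSeries H m, ∀ (j : J) (a b : V),
      D.π j a = D.π j b → D.π j (h • a) = D.π j (h • b) := by
  choose ρ hρ using fun h : H => D.exists_perm (hc h)
  let φ : H →* Equiv.Perm J := MonoidHom.mk' ρ fun x y => D.perm_uniq (hρ (x * y)) fun j a b => by
    rw [mul_smul, mul_smul]
    exact (hρ x _ _ _).trans (hρ y _ _ _)
  let _ : MulAction H J := MulAction.compHom J φ
  obtain ⟨m, hm⟩ := hP J A H (hn ▸ D.card_lt) hA fun h => D.three (hc h) (hρ h)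
  refine ⟨m, fun h hh j a b e => ?_⟩
  have := (hρ h j a b).2 e
  rwa [show ρ h j = j from hm h hh j] at this

end Cfsg.Agent.CL3
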