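import Cfsg.Agent.CL3.ImpB

set_option autoImplicit false

namespace Cfsg.Agent.CL3

universe u

open Cfsg.Agent.H11

/-- the affine group of a solvable linear group -/
theorem exists_aff (B W : Type u) [Group B] [AddCommGroup W] [DistribMulAction B W] (hB : Group.IsSolvable B) :
    ∃ (Γ : Type u) (_ : Group Γ) (_ : MulAction Γ W), Group.IsSolvable Γ ∧
      ∀ (w : W) (b : B), ∃ γ : Γ, ∀ u : W, γ • u = w + b • u := by
  let φ : B →* MulAut (Multiplicative W) :=
    MonoidHom.mk' (fun b => AddEquiv.toMultiplicative (DistribMulAction.toAddEquiv W b)) fun x y =>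
      MulEquiv.ext fun w => congrArg Multiplicative.ofAdd (mul_smul x y w.toAdd)
  let act : MulAction (Multiplicative W ⋊[φ] B) W :=
    { smul := fun γ u => γ.left.toAdd + γ.right • u
      one_smul := fun u => show (0 : W) + (1 : B) • u = u by rw [zero_add, one_smul]
      mul_smul := fun x y u => show x.left.toAdd + x.right • y.left.toAdd + (x.right * y.right) • u =
        x.left.toAdd + x.right • (y.left.toAdd + y.right • u) by rw [smul_add, mul_smul, add_assoc] }
  exact ⟨_, _, act, Group.isSolvable_of_ker_le_range SemidirectProduct.inl SemidirectProduct.rightHom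
    SemidirectProduct.range_inl_eq_ker_rightHom.ge, fun w b => ⟨⟨Multiplicative.ofAdd w, b⟩, fun _ => rfl⟩⟩

theorem Dec.base {n : ℕ} (hP : P.{u} n) {A V J H : Type u} [Group A] [AddCommGroup V] [Finite V]
    [DistribMulAction A V] [Fintype J] [MulAction A J] (D : Dec A V J) [Group H] [MulAction H V]
    (hn : Nat.card V = n) (hA : Group.IsSolvable A) (hc : AffCl A H V)
    (hk : ∀ (h : H) (j : J) (a b : V), D.π j a = D.π j b → D.π j (h • a) = D.π j (h • b)) :
    SolOn H V := by
  have key : ∀ j : J, ∃ m, ∀ h ∈ derivedSeries H m, ∀ v, D.π j (h • D.π j v) = D.π j v := fun j => by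
    have fx : ∀ u : (D.π j).range, D.π j u = u := by
      rintro ⟨_, v, rfl⟩
      exact D.idem j v
    let a1 : MulAction H (D.π j).range :=
      { smul := fun h u => ⟨D.π j (h • (u : V)), _, rfl⟩
        one_smul := fun u => Subtype.ext (show D.π j ((1 : H) • (u : V)) = u by rw [one_smul, fx])
        mul_smul := fun x y u => Subtype.ext (show D.π j ((x * y) • (u : V)) = D.π j (x • D.π j (y • (u : V))) by
          rw [mul_smul]; exact hk x j _ _ (D.idem j _).symm) }
    have e1 : ∀ (h : H) (u : (D.π j).range), ((h • u : (D.π j).range) : V) = D.π j (h • (u : V)) := fun _ _ => rfl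
    let a2 : DistribMulAction (MulAction.stabilizer A j) (D.π j).range :=
      { smul := fun g u => ⟨(g : A) • (u : V), (g : A) • (u : V), by
          have := D.eqv g j u
          rwa [MulAction.mem_stabilizer_iff.1 g.2, fx] at this⟩
        one_smul := fun u => Subtype.ext (one_smul A (u : V))
        mul_smul := fun x y u => Subtype.ext (mul_smul (x : A) (y : A) (u : V))
        smul_zero := fun g => Subtype.ext (smul_zero (g : A))
        smul_add := fun g u v => Subtype.ext (smul_add (g : A) (u : V) (v : V)) }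
    have e2 : ∀ (g : MulAction.stabilizer A j) (u : (D.π j).range),
        ((g • u : (D.π j).range) : V) = (g : A) • (u : V) := fun _ _ => rfl
    obtain ⟨Γ, _, _, hΓ, hγ⟩ := exists_aff (MulAction.stabilizer A j) (D.π j).range inferInstance
    have hlt : Nat.card (D.π j).range < n := by
      obtain ⟨i, hi⟩ : ∃ i, i ≠ j := by
        obtain ⟨a, b, h⟩ := D.two
        by_cases e : a = j
        · exact ⟨b, fun h' => h (e.trans h'.symm)⟩
        · exact ⟨a, e⟩
      obtain ⟨v, hv⟩ := D.exists_on i
      exact hn ▸ Finite.card_subtype_lt (x := v) fun h => hv.1 ((fx ⟨v, h⟩).symm.trans (hv.zero hi.symm))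
    obtain ⟨m, hm⟩ := hP (D.π j).range Γ H hlt hΓ fun h a b c => by
      obtain ⟨g, h1, h2⟩ := hc h a b c
      have st : ∀ d : (D.π j).range, h • (d : V) - h • (a : V) = g • ((d : V) - a) → d ≠ a → g • j = j :=
        fun d e hd => by
          have o : D.On j ((d : V) - a) := ⟨sub_ne_zero.2 fun e => hd (Subtype.ext e), fx (d - a)⟩
          refine ((o.smul g).eq fun h0 => hd (smul_left_cancel h (Subtype.ext ?_))).symm
          rw [← e, map_sub, sub_eq_zero] at h0
          exact h0
      by_cases e : g • j = j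
      · obtain ⟨γ, hγ⟩ := hγ (h • a - (⟨g, e⟩ : MulAction.stabilizer A j) • a) ⟨g, e⟩
        have k : ∀ d : (D.π j).range, h • (d : V) - h • (a : V) = g • ((d : V) - a) → γ • d = h • d := fun d e' => by
          have e3 := fx ((⟨g, e⟩ : MulAction.stabilizer A j) • (d - a))
          rw [e2] at e3
          change D.π j (g • ((d : V) - a)) = g • ((d : V) - a) at e3
          rw [hγ]
          refine Subtype.ext ?_
          change D.π j (h • (a : V)) - g • (a : V) + g • (d : V) = D.π j (h • (d : V))
          rw [sub_add_eq_add_sub, add_sub_assoc, ← smul_sub, ← e3, ← e', map_sub, add_sub_cancel]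
        exact ⟨γ, k a (by simp), k b h1, k c h2⟩
      · obtain rfl : b = a := by_contra fun e' => e (st b h1 e')
        obtain rfl : c = b := by_contra fun e' => e (st c h2 e')
        obtain ⟨γ, hγ⟩ := hγ (h • c - c) 1
        have : γ • c = h • c := by rw [hγ, one_smul, sub_add_cancel]
        exact ⟨γ, this, this, this⟩
    exact ⟨m, fun h hh v => congrArg Subtype.val (hm h hh ⟨_, v, rfl⟩)⟩
  obtain ⟨m, hm⟩ := ds_fin _ key
  refine ⟨m, fun h hh v => ?_⟩
  rw [← D.sum (h • v)]
  conv_rhs => rw [← D.sum v]
  exact Finset.sum_congr rfl fun j _ => (hk h j _ _ (D.idem j v).symm).trans (hm h hh j v)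

theorem Dec.solOn {n : ℕ} (hP : P.{u} n) {A V J H : Type u} [Group A] [AddCommGroup V] [Finite V]
    [DistribMulAction A V] [Fintype J] [MulAction A J] (D : Dec A V J) [Group H] [MulAction H V]
    (hn : Nat.card V = n) (hA : Group.IsSolvable A) (hc : AffCl A H V) : SolOn H V := by
  let N : Subgroup H :=
    { carrier := {h | ∀ (j : J) (a b : V), D.π j a = D.π j b ↔ D.π j (h • a) = D.π j (h • b)}
      one_mem' := fun j a b => by rw [one_smul, one_smul]
      mul_mem' := fun {x y} hx hy j a b => by rw [mul_smul, mul_smul, ← hx, ← hy]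
      inv_mem' := fun {x} hx j a b => by rw [hx j (x⁻¹ • a), smul_inv_smul, smul_inv_smul] }
  obtain ⟨m, hm⟩ := D.top hP hn hA hc
  refine SolOn.ext (N := N) ⟨m, fun h hh j a b => ⟨hm h hh j a b, fun e => ?_⟩⟩
    (D.base hP hn hA (fun h => hc h) fun h j a b => (h.2 j a b).1)
  simpa using hm _ (inv_mem hh) j _ _ e

end Cfsg.Agent.CL3
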