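import Cfsg.Agent.CL3.Defs
import Cfsg.Agent.H2.MinNormal

set_option autoImplicit false

namespace Cfsg.Agent.CL3

universe u

open Cfsg.Agent.H11
open scoped Pointwise

theorem iv_smul {X : Type*} [Group X] {s : ℕ} (α : MulAut X) (y : X) (P : Sylow s X) :
    α y • (α • P) = α • (y • P) := by
  rw [Sylow.smul_def, Sylow.smul_def, ← mul_smul, ← mul_smul]
  congr 1
  ext x
  simp

/-- a `r`-group of automorphisms without fixed points fixes exactly one Sylow subgroup -/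
theorem iv_uniq {X : Type*} [Group X] [Finite X] {r s : ℕ} [Fact r.Prime] [Fact s.Prime]
    {R : Subgroup (MulAut X)} (hR : IsPGroup r R) (hr : ¬ r ∣ Nat.card X)
    (hfix : ∀ y : X, (∀ α ∈ R, α y = y) → y = 1) {P P' : Sylow s X} (hP : ∀ α ∈ R, α • P = P)
    (hP' : ∀ α ∈ R, α • P' = P') : P = P' := by
  obtain ⟨x, hx⟩ := MulAction.exists_smul_eq X P P'
  let S : SubMulAction R X :=
    { carrier := {y | y • P = P'}
      smul_mem' := fun α y hy => by
        change (α : MulAut X) y • P = P'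
        rw [← hP α α.2, iv_smul, show y • P = P' from hy, hP' α α.2] }
  have e : S ≃ Subgroup.normalizer (P : Set X) :=
    { toFun := fun y => ⟨x⁻¹ * y, Sylow.smul_eq_iff_mem_normalizer.1 (by
        rw [mul_smul, show (y : X) • P = P' from y.2, inv_smul_eq_iff, hx])⟩
      invFun := fun n => ⟨x * n, by
        change (x * n) • P = P'
        rw [mul_smul, Sylow.smul_eq_iff_mem_normalizer.2 n.2, hx]⟩
      left_inv := fun y => Subtype.ext (mul_inv_cancel_left _ _)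
      right_inv := fun n => Subtype.ext (inv_mul_cancel_left _ _) }
  obtain ⟨y, hy⟩ := hR.nonempty_fixed_point_of_prime_not_dvd_card S (by
    rw [Nat.card_congr e]
    exact fun h => hr (h.trans (Subgroup.card_subgroup_dvd_card _)))
  have h1 : (y : X) = 1 := hfix y fun α hα => congrArg Subtype.val (hy ⟨α, hα⟩)
  have h2 : (y : X) • P = P' := y.2
  rwa [h1, one_smul] at h2

theorem iv_irr {A X : Type*} [Group A] [Group X] [Finite X] [Nontrivial X]
    (hA : Group.IsSolvable A) (φ : A →* MulAut X)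
    (irr : ∀ D : Subgroup X, (∀ a : A, ∀ d ∈ D, φ a d ∈ D) → D = ⊥ ∨ D = ⊤) (x y : X) : x * y = y * x := by
  by_cases h0 : φ.range = ⊥
  · obtain ⟨g, hg⟩ := exists_ne (1 : X)
    have h1 : ∀ a, φ a = 1 := fun a => Subgroup.mem_bot.1 (h0 ▸ ⟨a, rfl⟩)
    rcases irr (Subgroup.zpowers g) (fun a d hd => by rwa [h1]) with h | h
    · exact (hg (Subgroup.zpowers_eq_bot.1 h)).elim
    · obtain ⟨i, rfl⟩ : x ∈ Subgroup.zpowers g := h ▸ Subgroup.mem_top _
      obtain ⟨j, rfl⟩ : y ∈ Subgroup.zpowers g := h ▸ Subgroup.mem_top _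
      exact ((Commute.refl g).zpow_zpow i j).eq
  haveI := (Subgroup.nontrivial_iff_ne_bot _).2 h0
  haveI := Group.isSolvable_of_surjective φ.rangeRestrict_surjective
  obtain ⟨M, r, hr, hM, M1, -, hp, -⟩ := H2.exists_minimal_normal_of_solvable (G := φ.range)
  haveI := Fact.mk hr
  set R := M.map φ.range.subtype with hR
  have hRp : IsPGroup r R := hp.map _
  have hn : ∀ a, ∀ α ∈ R, (φ a)⁻¹ * α * φ a ∈ R := by
    rintro a _ ⟨m, hm, rfl⟩
    exact ⟨_, hM.conj_mem' m hm ⟨_, a, rfl⟩, rfl⟩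
  let C : Subgroup X :=
    { carrier := {y | ∀ α ∈ R, α y = y}
      one_mem' := fun α _ => map_one α
      mul_mem' := fun h1 h2 α hα => by rw [map_mul, h1 α hα, h2 α hα]
      inv_mem' := fun h1 α hα => by rw [map_inv, h1 α hα] }
  have hC : C = ⊥ := by
    refine (irr C fun a d hd α hα => ?_).resolve_right fun h => M1 (eq_bot_iff.2 fun m hm => ?_)
    · have := hd _ (hn a α hα)
      rw [MulAut.mul_apply, MulAut.mul_apply, MulAut.inv_apply, MulEquiv.symm_apply_eq] at this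
      exact this
    · exact Subtype.ext (MulEquiv.ext fun g => (h ▸ Subgroup.mem_top g : g ∈ C) _ ⟨m, hm, rfl⟩)
  have hfix : ∀ y : X, (∀ α ∈ R, α y = y) → y = 1 := fun y hy => Subgroup.mem_bot.1 (hC ▸ (hy : y ∈ C))
  have hrX : ¬ r ∣ Nat.card X := fun h => by
    obtain ⟨y, hy, y1⟩ := hRp.exists_fixed_point_of_prime_dvd_card_of_fixed_point X h (a := 1)
      fun α => smul_one α
    exact y1 (hfix y fun α hα => hy ⟨α, hα⟩).symm
  obtain ⟨s, hs, hsX⟩ := Nat.exists_prime_and_dvd (Finite.one_lt_card (α := X)).ne'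
  haveI := Fact.mk hs
  obtain ⟨P0⟩ : Nonempty (Sylow s X) := inferInstance
  obtain ⟨P, hP⟩ := hRp.nonempty_fixed_point_of_prime_not_dvd_card (Sylow s X)
    fun h => hrX (h.trans (P0.card_dvd_index.trans (Subgroup.index_dvd_card _)))
  have hP1 : ∀ α ∈ R, α • P = P := fun α hα => hP ⟨α, hα⟩
  have hPa : ∀ a, φ a • P = P := fun a => (iv_uniq hRp hrX hfix hP1 fun α hα => by
    calc α • φ a • P = φ a • ((φ a)⁻¹ * α * φ a) • P := by
          rw [← mul_smul, ← mul_smul, mul_assoc, mul_inv_cancel_left]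
      _ = _ := by rw [hP1 _ (hn a α hα)]).symm
  have hT : (P : Subgroup X) = ⊤ := by
    refine (irr P fun a d hd => ?_).resolve_left (P.ne_bot_of_dvd_card hsX)
    have := Subgroup.smul_mem_pointwise_smul d (φ a) (P : Subgroup X) hd
    rwa [← Sylow.pointwise_smul_def, hPa] at this
  have hX : IsPGroup s X := fun g => by
    obtain ⟨k, hk⟩ := P.isPGroup' ⟨g, hT ▸ Subgroup.mem_top g⟩
    exact ⟨k, congrArg Subtype.val hk⟩
  have hZ : Subgroup.center X = ⊤ := by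
    refine (irr _ fun a d hd => ?_).resolve_left ((Subgroup.nontrivial_iff_ne_bot _).1 hX.center_nontrivial)
    rw [Subgroup.mem_center_iff] at hd ⊢
    intro g
    obtain ⟨g, rfl⟩ := (φ a).surjective g
    rw [← map_mul, hd, map_mul]
  exact Subgroup.mem_center_iff.1 (hZ ▸ Subgroup.mem_top y) x

theorem exists_inv_ab {A X : Type*} [Group A] [Group X] [Finite X] [Nontrivial X]
    (hA : Group.IsSolvable A) (φ : A →* MulAut X) :
    ∃ D : Subgroup X, D ≠ ⊥ ∧ (∀ a : A, ∀ d ∈ D, φ a d ∈ D) ∧ ∀ x ∈ D, ∀ y ∈ D, x * y = y * x := by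
  obtain ⟨D, -, hD⟩ := Finite.exists_le_minimal
    (p := fun D : Subgroup X => D ≠ ⊥ ∧ ∀ a : A, ∀ d ∈ D, φ a d ∈ D) (a := ⊤)
    ⟨top_ne_bot, fun _ _ _ => Subgroup.mem_top _⟩
  refine ⟨D, hD.prop.1, hD.prop.2, fun x hx y hy => ?_⟩
  letI act : MulDistribMulAction A D :=
    { smul := fun a d => ⟨φ a d, hD.prop.2 a d d.2⟩
      one_smul := fun d => Subtype.ext (by change φ 1 d = d; rw [map_one]; rfl)
      mul_smul := fun a b d => Subtype.ext (by change φ (a * b) d = φ a (φ b d); rw [map_mul]; rfl)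
      smul_mul := fun a d e => Subtype.ext (map_mul (φ a) (d : X) e)
      smul_one := fun a => Subtype.ext (map_one (φ a)) }
  haveI := (Subgroup.nontrivial_iff_ne_bot _).2 hD.prop.1
  refine congrArg Subtype.val (iv_irr hA (MulDistribMulAction.toMulAut A D) (fun E hE => ?_) ⟨x, hx⟩ ⟨y, hy⟩)
  by_cases h : E = ⊥
  · exact Or.inl h
  refine Or.inr (Subgroup.map_injective D.subtype_injective ?_)
  rw [← MonoidHom.range_eq_map, Subgroup.range_subtype]
  refine hD.eq_of_le ⟨fun e => h ((Subgroup.map_eq_bot_iff_of_injective _ D.subtype_injective).1 e), ?_⟩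
    (Subgroup.map_subtype_le _)
  rintro a _ ⟨d, hd, rfl⟩
  exact ⟨_, hE a d hd, rfl⟩

theorem exists_inv_mod {A Γ : Type*} [Group A] [Group Γ] [Finite Γ] (hA : Group.IsSolvable A)
    (σ : A →* Γ) {X Z : Subgroup Γ} (hZX : Z ≤ X) (hne : Z ≠ X)
    (hX : ∀ a : A, ∀ x ∈ X, σ a * x * (σ a)⁻¹ ∈ X) (hZ : ∀ a : A, ∀ z ∈ Z, σ a * z * (σ a)⁻¹ ∈ Z)
    (hN : ∀ x ∈ X, ∀ z ∈ Z, x * z * x⁻¹ ∈ Z) :
    ∃ D : Subgroup Γ, Z ≤ D ∧ D ≤ X ∧ Z ≠ D ∧ (∀ a : A, ∀ d ∈ D, σ a * d * (σ a)⁻¹ ∈ D) ∧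
      ∀ x ∈ D, ∀ y ∈ D, x * y * x⁻¹ * y⁻¹ ∈ Z := by
  haveI hn : (Z.subgroupOf X).Normal := ⟨fun z hz x => hN x x.2 z hz⟩
  let c : A → X →* X := fun a =>
    { toFun := fun x => ⟨σ a * x * (σ a)⁻¹, hX a x x.2⟩
      map_one' := Subtype.ext (by simp)
      map_mul' := fun x y => Subtype.ext (by simp [mul_assoc]) }
  let m : A → X ⧸ Z.subgroupOf X →* X ⧸ Z.subgroupOf X := fun a =>
    QuotientGroup.map _ _ (c a) fun z hz => hZ a z hz
  letI act : MulDistribMulAction A (X ⧸ Z.subgroupOf X) :=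
    { smul := fun a q => m a q
      one_smul := fun q => by
        obtain ⟨x, rfl⟩ := QuotientGroup.mk_surjective q
        exact congrArg QuotientGroup.mk (Subtype.ext (by simp [c]) : c 1 x = x)
      mul_smul := fun a b q => by
        obtain ⟨x, rfl⟩ := QuotientGroup.mk_surjective q
        exact congrArg QuotientGroup.mk (Subtype.ext (by simp [c, mul_assoc]) : c (a * b) x = c a (c b x))
      smul_mul := fun a d e => map_mul (m a) d e
      smul_one := fun a => map_one (m a) }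
  haveI : Nontrivial (X ⧸ Z.subgroupOf X) := QuotientGroup.nontrivial_iff.2 fun e =>
    hne (le_antisymm hZX (Subgroup.subgroupOf_eq_top.1 e))
  obtain ⟨D, h1, h2, h3⟩ := exists_inv_ab hA (MulDistribMulAction.toMulAut A (X ⧸ Z.subgroupOf X))
  refine ⟨(D.comap (QuotientGroup.mk' _)).map X.subtype, fun z hz => ⟨⟨z, hZX hz⟩, ?_, rfl⟩,
    Subgroup.map_subtype_le _, fun e => h1 (eq_bot_iff.2 fun q hq => ?_), ?_, ?_⟩
  · change ((⟨z, hZX hz⟩ : X) : X ⧸ Z.subgroupOf X) ∈ D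
    rw [(QuotientGroup.eq_one_iff (N := Z.subgroupOf X) ⟨z, hZX hz⟩).2 hz]
    exact one_mem _
  · obtain ⟨x, rfl⟩ := QuotientGroup.mk_surjective q
    exact (QuotientGroup.eq_one_iff _).2 (show (x : Γ) ∈ Z from e ▸ ⟨x, hq, rfl⟩)
  · rintro a _ ⟨d, hd, rfl⟩
    exact ⟨c a d, h2 a _ hd, rfl⟩
  · rintro _ ⟨x, hx, rfl⟩ _ ⟨y, hy, rfl⟩
    have := h3 _ hx _ hy
    refine (QuotientGroup.eq_one_iff (N := Z.subgroupOf X) (x * y * x⁻¹ * y⁻¹)).1 ?_
    change QuotientGroup.mk' _ (x * y * x⁻¹ * y⁻¹) = 1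
    rw [map_mul, map_mul, map_mul, this, map_inv, map_inv]
    group

end Cfsg.Agent.CL3
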