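import Cfsg.Agent.CL3.Defs

/-! The 3-closure of a solvable permutation group: orbits of the Heisenberg group span. -/

set_option autoImplicit false

namespace Cfsg.Agent.CL3

universe u

open Cfsg.Agent.H11

variable {K B V G : Type*} [Field K] [Group B] [AddCommGroup V] [Module K V]
  [DistribMulAction B V] [Group G] [DistribMulAction G V]

theorem card_ne_zero [Finite B] (H : Heis K B V G) : ((Nat.card B : ℕ) : K) ≠ 0 := fun h => by
  have hd := (CharP.cast_eq_zero_iff K (ringChar K) _).1 h
  have hp : (ringChar K).Prime := (CharP.char_is_prime_or_zero K (ringChar K)).resolve_right fun e =>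
    Nat.card_pos.ne' (zero_dvd_iff.1 (e ▸ hd))
  haveI := Fact.mk hp
  have one : ∀ k : Kˣ, k ^ ringChar K = 1 → k = 1 := fun k hk => Units.ext (by
    have : ((k : K) - 1) ^ ringChar K = 0 := by
      rw [sub_pow_char, ← Units.val_pow_eq_pow_val, hk, one_pow, Units.val_one, sub_self]
    exact sub_eq_zero.1 (pow_eq_zero_iff hp.ne_zero |>.1 this))
  obtain ⟨b, hb⟩ := exists_prime_orderOf_dvd_card' (G := B) _ hd
  have e : b ^ ringChar K = 1 := hb ▸ pow_orderOf_eq_one b
  obtain ⟨k, rfl⟩ := H.cen b fun c => H.cm_eq_one_iff.1 (one _ (by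
    rw [← H.cm_pow_left, e, ← map_one H.sc, H.cm_sc_left]))
  rw [one k (H.sc_inj (by rw [map_pow, e, map_one])), map_one, orderOf_one] at hb
  exact hp.one_lt.ne hb

theorem spn_cen [Finite V] (hc : Cen K B V) (γ : V →ₗ[K] V) (hi : ∀ v, γ v = 0 → v = 0)
    (h : ∀ (b : B) (v : V), γ (b • v) = b • γ v) : ∃ k : K, ∀ v, γ v = k • v :=
  have i : Function.Injective γ := (injective_iff_map_eq_zero γ).2 hi
  hc (AddEquiv.ofBijective γ.toAddMonoidHom ⟨i, Finite.surjective_of_injective i⟩) h

theorem spn_proj [Finite B] (H : Heis K B V G) (W : Submodule K V) (hW : ∀ (b : B), ∀ w ∈ W, b • w ∈ W) :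
    ∃ π : V →ₗ[K] V, (∀ v, π v ∈ W) ∧ (∀ w ∈ W, π w = w) ∧ ∀ (b : B) (v : V), π (b • v) = b • π v := by
  haveI := Fintype.ofFinite B
  obtain ⟨p, hp⟩ := W.subtype.exists_leftInverse_of_injective W.ker_subtype
  have hp' : ∀ w ∈ W, (p w : V) = w := fun w hw => congrArg Subtype.val (DFunLike.congr_fun hp ⟨w, hw⟩)
  refine ⟨⟨⟨fun v => ((Nat.card B : ℕ) : K)⁻¹ • ∑ b : B, b • (p (b⁻¹ • v) : V), fun u v => ?_⟩, fun k v => ?_⟩,
    fun v => W.smul_mem _ (W.sum_mem fun b _ => hW b _ (p _).2), fun w hw => ?_, fun c v => ?_⟩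
  · simp only [smul_add, map_add, Submodule.coe_add, Finset.sum_add_distrib]
  · simp only [H.lin, map_smul, Submodule.coe_smul, ← Finset.smul_sum, RingHom.id_apply]
    exact smul_comm _ _ _
  · show (_ : K) • ∑ b : B, b • (p (b⁻¹ • w) : V) = w
    rw [Finset.sum_congr rfl fun b _ => show b • (p (b⁻¹ • w) : V) = w by rw [hp' _ (hW _ w hw), smul_inv_smul],
      Finset.sum_const, Finset.card_univ, ← Nat.card_eq_fintype_card, ← Nat.cast_smul_eq_nsmul K,
      inv_smul_smul₀ (card_ne_zero H)]
  · show (_ : K) • ∑ b : B, b • (p (b⁻¹ • c • v) : V) = c • (_ : K) • ∑ b : B, b • (p (b⁻¹ • v) : V)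
    rw [H.lin, Finset.smul_sum (r := c), ← Equiv.sum_comp (Equiv.mulLeft c)]
    simp only [Equiv.coe_mulLeft, mul_inv_rev, mul_smul, inv_smul_smul]

theorem spn [Finite B] [Finite V] (H : Heis K B V G) (hc : Cen K B V) : Spn K B V := fun x hx => by
  set W := Submodule.span K (Set.range fun b : B => b • x) with hW
  have xW : x ∈ W := Submodule.subset_span ⟨1, one_smul B x⟩
  refine eq_top_iff.2 fun v _ => ?_
  by_cases h : ∀ k : Kˣ, k = 1
  · by_contra hv
    have t : ∀ (b : B) (u : V), b • u = u := fun b u => by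
      obtain ⟨k, rfl⟩ := H.cen b fun c => H.cm_eq_one_iff.1 (h _)
      rw [h k, map_one, one_smul]
    obtain ⟨f, f1, f2⟩ := Submodule.exists_le_ker_of_notMem hv
    have f0 : f x = 0 := f2 xW
    obtain ⟨k, hk⟩ := spn_cen hc (LinearMap.id + f.smulRight x) (fun u hu => by
      have e : u + f u • x = 0 := hu
      have := congrArg f e
      rw [map_add, map_smul, f0, smul_zero, add_zero, map_zero] at this
      rwa [this, zero_smul, add_zero] at e) fun b u => by rw [t, t]
    have e1 : x + f x • x = k • x := hk x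
    have e2 : v + f v • x = k • v := hk v
    rw [f0, zero_smul, add_zero] at e1
    rw [← smul_left_injective K hx ((one_smul K x).trans e1), one_smul, add_eq_left] at e2
    exact hx ((smul_eq_zero_iff_right f1).1 e2)
  · push Not at h
    obtain ⟨l, hl⟩ := h
    have l1 : (l : K) - 1 ≠ 0 := sub_ne_zero.2 fun e => hl (Units.ext e)
    obtain ⟨π, p1, p2, p3⟩ := spn_proj H W fun b w hw => by
      refine Submodule.span_induction (p := fun w _ => b • w ∈ W) ?_ ?_ ?_ ?_ hw
      · rintro _ ⟨c, rfl⟩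
        exact Submodule.subset_span ⟨b * c, mul_smul b c x⟩
      · rw [smul_zero]; exact W.zero_mem
      · exact fun u w _ _ a a' => by rw [smul_add]; exact W.add_mem a a'
      · exact fun k w _ a => by rw [H.lin]; exact W.smul_mem k a
    obtain ⟨k, hk⟩ := spn_cen hc (LinearMap.id + ((l : K) - 1) • π) (fun u hu => by
      have e : u + ((l : K) - 1) • π u = 0 := hu
      have := congrArg π e
      rw [map_add, map_smul, p2 _ (p1 u), map_zero, sub_smul, one_smul, add_sub_cancel,
        smul_eq_zero_iff_right l.ne_zero] at this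
      rwa [this, smul_zero, add_zero] at e) fun b u => by
        show b • u + (_ : K) • π (b • u) = b • (u + (_ : K) • π u)
        rw [p3, smul_add, H.lin]
    have e1 : x + ((l : K) - 1) • π x = k • x := hk x
    have e2 : v + ((l : K) - 1) • π v = k • v := hk v
    rw [p2 x xW, sub_smul, one_smul, add_sub_cancel] at e1
    rw [← smul_left_injective K hx e1, ← eq_sub_iff_add_eq', ← one_smul K v, smul_smul, mul_one, ← sub_smul,
      one_smul] at e2
    exact smul_right_injective V l1 e2 ▸ p1 v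

end Cfsg.Agent.CL3
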