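import Cfsg.Agent.CL3.NB
import Cfsg.Agent.CL3.Spn
import Cfsg.Agent.CL3.B4o
import Cfsg.Agent.CL3.B4e
import Cfsg.Agent.H85.Swaps

/-! The linear 2-closure of a solvable group normalising a Heisenberg group is solvable. -/

set_option autoImplicit false

namespace Cfsg.Agent.CL3

universe u

open Cfsg.Agent.H11

variable {K B V G : Type*} [Field K] [Group B] [AddCommGroup V] [Module K V]
  [DistribMulAction B V] [Group G] [DistribMulAction G V]

/-- a group normalising `B` acts on it -/
theorem lin_alpha (H : Heis K B V G) {L : Type*} [Group L] [DistribMulAction L V]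
    (h : ∀ (l : L) (b : B), ∃ c : B, ∀ v : V, l • b • v = c • l • v) :
    ∃ α : L →* MulAut B, ∀ (l : L) (b : B) (v : V), l • b • v = α l b • l • v := by
  choose c hc using h
  have e : ∀ (l : L) {a b : B}, (∀ v : V, a • l • v = b • l • v) → a = b := fun l a b h =>
    H.ext_smul fun v => by simpa only [smul_inv_smul] using h (l⁻¹ • v)
  letI : MulDistribMulAction L B :=
    { smul := c
      one_smul := fun b => e 1 fun v => (hc 1 b v).symm.trans (by rw [one_smul, one_smul])
      mul_smul := fun l l' b => e (l * l') fun v => (hc _ b v).symm.trans (by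
        rw [mul_smul, hc, hc, mul_smul]; rfl)
      smul_mul := fun l a b => e l fun v => (hc l _ v).symm.trans (by rw [mul_smul, hc, hc, mul_smul]; rfl)
      smul_one := fun l => e l fun v => (hc l 1 v).symm.trans (by rw [one_smul, one_smul]) }
  exact ⟨MulDistribMulAction.toMulAut L B, hc⟩

theorem lin [Finite B] [Finite K] [Finite V] (H : Heis K B V G) (hab : Ab H) (hc : Cen K B V)
    (hG : Group.IsSolvable G) : Group.IsSolvable (clo G V) := by
  obtain ⟨α, hα⟩ := lin_alpha H (L := clo G V) fun l b => nrm_all H hab (spn H hc) l.2 b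
  let ρ : G →* clo G V := (DistribMulAction.toModuleAut ℤ V).codRestrict _ fun g _ _ => ⟨g, rfl, rfl⟩
  have hρ : ∀ g, α (ρ g) = H.α g := fun g => MulEquiv.ext fun b => H.ext_smul fun v => by
    have := (hα (ρ g) b (g⁻¹ • v)).symm.trans (H.compat g b (g⁻¹ • v))
    rwa [show ρ g • g⁻¹ • v = v from smul_inv_smul g v, smul_inv_smul] at this
  let HL : Heis K B V (clo G V) :=
    { H with α := α, compat := hα, cyc := fun D hD => H.cyc D fun g d hd => hρ g ▸ hD (ρ g) d hd }
  obtain ⟨x, y, t, ht⟩ : Base4 HL := (eq_or_ne (2 : K) 0).elim (base4_even HL) (base4_odd HL)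
  let M : Subgroup (clo G V) := H.α.range.comap α
  have hs : ∀ q : clo G V ⧸ M, ∃ s : clo G V, s • x = x ∧ s • y = y ∧ (s : clo G V ⧸ M) = q := by
    rintro ⟨l⟩
    obtain ⟨g, h1, h2⟩ := l⁻¹.2 x y
    refine ⟨l * ρ g, ?_, ?_, QuotientGroup.eq.2 ⟨g⁻¹, ?_⟩⟩
    · rw [mul_smul, show ρ g • x = l⁻¹ • x from h1, smul_inv_smul]
    · rw [mul_smul, show ρ g • y = l⁻¹ • y from h2, smul_inv_smul]
    · rw [mul_inv_rev, inv_mul_cancel_right, ← map_inv, hρ]
  choose s hx hy hs using hs
  have inj : Function.Injective fun q => t (s q) := fun q q' e => by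
    rw [← hs q, ← hs q']
    exact QuotientGroup.eq.2 ⟨1, by
      rw [map_one, map_mul, map_inv, show α _ = α _ from ht _ _ (hx q) (hy q) (hx q') (hy q') e, inv_mul_cancel]⟩
  have := H85.isSolvable_perm_fin_four
  have : Group.IsSolvable (Equiv.Perm (clo G V ⧸ M)) :=
    Group.isSolvable_of_isSolvable_injective (Equiv.Perm.viaEmbeddingHom_injective ⟨_, inj⟩)
  let β : M →* H.α.range := (α.comp M.subtype).codRestrict _ fun m => m.2
  have := Group.isSolvable_of_surjective H.α.rangeRestrict_surjective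
  have : Group.IsSolvable β.ker := Group.isSolvable_of_comm fun a b => by
    have k : ∀ a : β.ker, ∃ k : K, ∀ v, (a.1.1.1 : V ≃ₗ[ℤ] V) v = k • v := fun a =>
      hc a.1.1.1.toAddEquiv fun b v => (hα a.1.1 b v).trans (by
        rw [show α a.1.1 = 1 from congrArg Subtype.val a.2]; rfl)
    obtain ⟨k1, h1⟩ := k a
    obtain ⟨k', h2⟩ := k b
    exact Subtype.ext (Subtype.ext (Subtype.ext (LinearEquiv.ext fun v => by
      change a.1.1.1 (b.1.1.1 v) = b.1.1.1 (a.1.1.1 v)
      rw [h1, h2, h1, h2, smul_comm])))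
  have : Group.IsSolvable M := Group.isSolvable_of_ker_le_range β.ker.subtype β (by rw [Subgroup.range_subtype])
  exact Group.isSolvable_of_ker_le_range M.subtype (MulAction.toPermHom _ (clo G V ⧸ M))
    (by rw [Subgroup.range_subtype, ← Subgroup.normalCore_eq_ker]; exact M.normalCore_le)

end Cfsg.Agent.CL3
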