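import Cfsg.Agent.CL3.Inv
import Cfsg.Agent.H33.OutD

set_option autoImplicit false

namespace Cfsg.Agent.CL3

universe u

open Cfsg.Agent.H11

namespace StrAux

open Subgroup

theorem cent_inv {A Γ : Type*} [Group A] [Group Γ] (σ : A →* Γ) {B : Subgroup Γ}
    (hB : ∀ a : A, ∀ b ∈ B, σ a * b * (σ a)⁻¹ ∈ B) (a : A) (x : Γ)
    (hx : x ∈ centralizer (B : Set Γ)) : σ a * x * (σ a)⁻¹ ∈ centralizer (B : Set Γ) := by
  intro b hb
  have h1 := hx _ (hB a⁻¹ b hb)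
  rw [map_inv, inv_inv] at h1
  calc b * (σ a * x * (σ a)⁻¹) = σ a * ((σ a)⁻¹ * b * σ a * x) * (σ a)⁻¹ := by group
    _ = σ a * x * (σ a)⁻¹ * b := by rw [h1]; group

/-- a maximal invariant class two subgroup over `Z` is self-centralizing -/
theorem exists_B {A Γ : Type*} [Group A] [Group Γ] [Finite Γ] (hA : Group.IsSolvable A)
    (σ : A →* Γ) (Z : Subgroup Γ) (Zc : ∀ z ∈ Z, ∀ w ∈ Z, z * w = w * z)
    (Zi : ∀ a : A, ∀ z ∈ Z, σ a * z * (σ a)⁻¹ ∈ Z)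
    (hAb : ∀ D : Subgroup Γ, D ≤ centralizer (Z : Set Γ) →
      (∀ a : A, ∀ d ∈ D, σ a * d * (σ a)⁻¹ ∈ D) → (∀ x ∈ D, ∀ y ∈ D, x * y = y * x) → D ≤ Z) :
    ∃ B : Subgroup Γ, Z ≤ B ∧ B ≤ centralizer (Z : Set Γ) ∧
      (∀ a : A, ∀ b ∈ B, σ a * b * (σ a)⁻¹ ∈ B) ∧ (∀ x ∈ B, ∀ y ∈ B, x * y * x⁻¹ * y⁻¹ ∈ Z) ∧
      centralizer (B : Set Γ) ≤ Z := by
  obtain ⟨B, ⟨h1, h2, h3, h4⟩, hm⟩ := (Set.toFinite {B : Subgroup Γ | Z ≤ B ∧
    B ≤ centralizer (Z : Set Γ) ∧ (∀ a : A, ∀ b ∈ B, σ a * b * (σ a)⁻¹ ∈ B) ∧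
    ∀ x ∈ B, ∀ y ∈ B, x * y * x⁻¹ * y⁻¹ ∈ Z}).exists_maximal
    ⟨Z, le_rfl, fun z hz w hw => Zc w hw z hz, Zi, fun x hx y hy =>
      mul_mem (mul_mem (mul_mem hx hy) (inv_mem hx)) (inv_mem hy)⟩
  refine ⟨B, h1, h2, h3, h4, ?_⟩
  have hZX : Z ≤ centralizer (B : Set Γ) := fun z hz b hb => (h2 hb z hz).symm
  by_contra hne
  obtain ⟨D, d1, d2, d3, d4, d5⟩ := exists_inv_mod hA σ hZX (fun e => hne e.ge) (cent_inv σ h3) Zi
    (fun x hx z hz => by rw [← hx z (h1 hz), mul_inv_cancel_right]; exact hz)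
  have c : ∀ d ∈ D, ∀ b ∈ B, b * d = d * b := fun d hd b hb => d2 hd b hb
  let B' : Subgroup Γ :=
    { carrier := {x | ∃ d ∈ D, ∃ b ∈ B, x = d * b}
      one_mem' := ⟨1, one_mem _, 1, one_mem _, (mul_one _).symm⟩
      mul_mem' := by
        rintro _ _ ⟨d, hd, b, hb, rfl⟩ ⟨d', hd', b', hb', rfl⟩
        refine ⟨d * d', mul_mem hd hd', b * b', mul_mem hb hb', ?_⟩
        rw [mul_assoc, ← mul_assoc b, c d' hd' b hb]
        simp only [mul_assoc]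
      inv_mem' := by
        rintro _ ⟨d, hd, b, hb, rfl⟩
        exact ⟨d⁻¹, inv_mem hd, b⁻¹, inv_mem hb, by rw [← c d hd b hb, mul_inv_rev]⟩ }
  have hBB : B ≤ B' := fun b hb => ⟨1, one_mem _, b, hb, (one_mul _).symm⟩
  have dZ : D ≤ centralizer (Z : Set Γ) := fun d hd z hz => c d hd z (h1 hz)
  have hB' : B' ≤ B := hm ⟨h1.trans hBB, by
      rintro _ ⟨d, hd, b, hb, rfl⟩
      exact mul_mem (dZ hd) (h2 hb), by
      rintro a _ ⟨d, hd, b, hb, rfl⟩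
      exact ⟨_, d4 a d hd, _, h3 a b hb, by group⟩, by
      rintro _ ⟨d, hd, b, hb, rfl⟩ _ ⟨d', hd', b', hb', rfl⟩
      have e : d * b * (d' * b') * (d * b)⁻¹ * (d' * b')⁻¹ =
          d * d' * d⁻¹ * d'⁻¹ * (b * b' * b⁻¹ * b'⁻¹) := by
        have m : b * b' * b⁻¹ ∈ B := mul_mem (mul_mem hb hb') (inv_mem hb)
        calc d * b * (d' * b') * (d * b)⁻¹ * (d' * b')⁻¹
            = d * (b * d') * b' * b⁻¹ * (d⁻¹ * b'⁻¹) * d'⁻¹ := by group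
          _ = d * d' * (b * b' * b⁻¹ * b'⁻¹ * d⁻¹) * d'⁻¹ := by
              rw [c d' hd' b hb, ← c d⁻¹ (inv_mem hd) b'⁻¹ (inv_mem hb')]; group
          _ = d * d' * d⁻¹ * (b * b' * b⁻¹ * b'⁻¹ * d'⁻¹) := by
              rw [c d⁻¹ (inv_mem hd) _ (mul_mem m (inv_mem hb'))]; group
          _ = _ := by rw [c d'⁻¹ (inv_mem hd') _ (mul_mem m (inv_mem hb'))]; group
      rw [e]
      exact mul_mem (d5 d hd d' hd') (h4 b hb b' hb')⟩ hBB
  have hDB : D ≤ B := fun d hd => hB' ⟨d, hd, 1, one_mem _, (mul_one _).symm⟩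
  exact d3 (le_antisymm d1 (hAb D dZ d4 fun x hx y hy => c y hy x (hDB hx)))

end StrAux

open MulAction Subgroup H33 in
theorem exists_heis {A V : Type u} [Group A] [Finite A] [AddCommGroup V] [Finite V] [Nontrivial V]
    [DistribMulAction A V] (hq : H33.Quasi A V) (hA : Group.IsSolvable A) :
    ∃ (K B : Type u) (_ : Field K) (_ : Finite K) (_ : Group B) (_ : Finite B) (_ : Module K V)
      (_ : DistribMulAction B V) (H : Heis K B V A), Ab H ∧ Cen K B V := by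
  have : Finite (Module.End ℤ V) := DFunLike.finite _
  have : Finite (V ≃ₗ[ℤ] V) := DFunLike.finite _
  obtain ⟨T, ⟨t1, t2⟩, hm⟩ := (Set.toFinite {T : Set (Module.End ℤ V) |
    (∀ r ∈ T, ∀ s ∈ T, r * s = s * r) ∧ ∀ a, ∀ r ∈ T, cjE A V a • r ∈ T}).exists_maximal
    ⟨∅, by simp, by simp⟩
  let R := Subring.closure T
  obtain ⟨h3, h4, h5⟩ := hq.dom t1 t2
  letI : CommRing R := { (inferInstance : Ring R) with mul_comm := h3 }
  letI := (Finite.isField_of_domain R).toField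
  let σ := DistribMulAction.toModuleAut ℤ V (S := A)
  let s0 := DistribMulAction.toModuleAut ℤ V (S := Rˣ)
  have hs0 : ∀ (k : Rˣ) (v : V), s0 k v = (k : R) • v := fun _ _ => rfl
  have hσ : ∀ (a : A) (b : V ≃ₗ[ℤ] V) (v : V), (σ a * b * (σ a)⁻¹) v = a • b (a⁻¹ • v) :=
    fun _ _ _ => rfl
  have hZ : ∀ (b : V ≃ₗ[ℤ] V) (k : R), (∀ v, b v = k • v) → b ∈ s0.range := fun b k h =>
    ⟨Units.mk0 k (fun e => let ⟨v, hv⟩ := exists_ne (0 : V);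
      hv (b.map_eq_zero_iff.1 (by rw [h, e, zero_smul]))), LinearEquiv.ext fun v => (h v).symm⟩
  have hl : ∀ b ∈ centralizer (s0.range : Set (V ≃ₗ[ℤ] V)), ∀ (k : R) (v : V),
      b (k • v) = k • b v := fun b hb k v => by
    by_cases hk : k = 0
    · rw [hk, zero_smul, zero_smul, map_zero]
    · exact (LinearEquiv.congr_fun (hb _ ⟨Units.mk0 k hk, rfl⟩) v).symm
  have hAb : ∀ D : Subgroup (V ≃ₗ[ℤ] V), D ≤ centralizer (s0.range : Set (V ≃ₗ[ℤ] V)) →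
      (∀ a : A, ∀ d ∈ D, σ a * d * (σ a)⁻¹ ∈ D) → (∀ x ∈ D, ∀ y ∈ D, x * y = y * x) →
      D ≤ s0.range := by
    intro D d1 d2 d3 d hd
    have c1 : ∀ r ∈ T, ∀ x ∈ D, r * x.toLinearMap = x.toLinearMap * r := fun r hr x hx =>
      LinearMap.ext fun v => (hl x (d1 hx) ⟨r, Subring.subset_closure hr⟩ v).symm
    have := hm (y := T ∪ {r | ∃ x ∈ D, r = x.toLinearMap}) ⟨by
      rintro r (hr | ⟨x, hx, rfl⟩) s (hs | ⟨y, hy, rfl⟩)
      · exact t1 r hr s hs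
      · exact c1 r hr y hy
      · exact (c1 s hs x hx).symm
      · exact LinearMap.ext fun v => LinearEquiv.congr_fun (d3 x hx y hy) v, by
      rintro a r (hr | ⟨x, hx, rfl⟩)
      · exact Or.inl (t2 a r hr)
      · exact Or.inr ⟨_, d2 a x hx, rfl⟩⟩ Set.subset_union_left (Or.inr ⟨d, hd, rfl⟩)
    exact hZ d ⟨_, Subring.subset_closure this⟩ fun _ => rfl
  obtain ⟨B, b1, b2, b3, b4, b5⟩ := StrAux.exists_B hA σ s0.range (by
    rintro _ ⟨k, rfl⟩ _ ⟨l, rfl⟩; rw [← map_mul, mul_comm, map_mul]) (by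
    rintro a _ ⟨k, rfl⟩
    exact hZ _ ⟨_, h4 a k.1.1 k.1.2⟩ fun v => rfl) hAb
  let α := B.normalizerMonoidHom.comp (σ.codRestrict _ fun g => mem_normalizer_fintype (b3 g))
  have h8 : ∀ g (b : B) (v : V), α g b • v = g • b • g⁻¹ • v := fun _ _ _ => rfl
  let sc : Rˣ →* B := s0.codRestrict B fun k => b1 ⟨k, rfl⟩
  have h9 : ∀ b : B, b.1 ∈ s0.range → ∃ k, b = sc k := fun b ⟨k, e⟩ => ⟨k, Subtype.ext e.symm⟩
  have hA' : ∀ D : Subgroup B, (∀ g, ∀ d ∈ D, α g d ∈ D) → (∀ a ∈ D, ∀ b ∈ D, a * b = b * a) →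
      ∀ d ∈ D, ∃ k, d = sc k := fun D d1 d2 d hd => h9 d (hAb (D.map B.subtype)
    ((map_subtype_le D).trans b2) (by
      rintro a _ ⟨x, hx, rfl⟩
      exact ⟨_, d1 a x hx, rfl⟩) (by
      rintro _ ⟨x, hx, rfl⟩ _ ⟨y, hy, rfl⟩
      exact congrArg Subtype.val (d2 x hx y hy)) ⟨d, hd, rfl⟩)
  refine ⟨R, B, inferInstance, inferInstance, inferInstance, inferInstance, inferInstance,
    inferInstance, ⟨sc, fun _ _ => rfl, fun b k v => hl b (b2 b.2) k v,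
    fun b h => Subtype.ext (LinearEquiv.ext h), fun b c => ?_, fun b h' => h9 b (b5 fun c hc => ?_),
    exists_ne 0, α, fun g b v => by rw [h8, inv_smul_smul], fun D h h' => ?_⟩, hA',
    fun γ hγ => ?_⟩
  · obtain ⟨k, e⟩ := h9 (b * c * b⁻¹ * c⁻¹) (b4 b b.2 c c.2)
    exact ⟨k, by rw [← e]; group⟩
  · exact (congrArg Subtype.val (h' ⟨c, hc⟩)).symm
  · have : IsCyclic sc.range := isCyclic_of_surjective _ sc.rangeRestrict_surjective
    exact isCyclic_of_le (H' := sc.range) fun d hd => let ⟨k, e⟩ := hA' D h h' d hd; ⟨k, e.symm⟩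
  · obtain ⟨k, e⟩ := b5 (x := γ.toIntLinearEquiv) fun c hc =>
      LinearEquiv.ext fun v => (hγ ⟨c, hc⟩ v).symm
    exact ⟨k, fun v => (LinearEquiv.congr_fun e v).symm⟩

end Cfsg.Agent.CL3
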