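import Cfsg.Agent.CL3.Red
import Cfsg.Agent.CL3.ImpC
import Cfsg.Agent.CL3.Dich
import Cfsg.Agent.CL3.Str
import Cfsg.Agent.CL3.Add
import Cfsg.Agent.CL3.Idx
import Cfsg.Agent.CL3.Lin

set_option autoImplicit false

namespace Cfsg.Agent.CL3

universe u

open Cfsg.Agent.H11

section
variable {A H V : Type*} [Group A] [AddCommGroup V] [DistribMulAction A V] [Group H] [MulAction H V]

/-- the linear part of an affine element -/
def lpart (hadd : ∀ (h : H) (u v : V), h • (u + v) - h • (0 : V) = (h • u - h • (0 : V)) + (h • v - h • (0 : V)))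
    (h : H) : V →+ V := AddMonoidHom.mk' (fun u => h • u - h • (0 : V)) (hadd h)

theorem lpart_mul (hadd : ∀ (h : H) (u v : V),
    h • (u + v) - h • (0 : V) = (h • u - h • (0 : V)) + (h • v - h • (0 : V))) (h h' : H) (u : V) :
    lpart hadd (h * h') u = lpart hadd h (lpart hadd h' u) := by
  have h1 : lpart hadd h (lpart hadd h' u) = lpart hadd h (h' • u) - lpart hadd h (h' • 0) := by
    rw [← map_sub]; rfl
  rw [h1]
  show (h * h') • u - (h * h') • (0 : V) = (h • h' • u - h • 0) - (h • h' • (0 : V) - h • 0)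
  rw [mul_smul, mul_smul]; abel

theorem lpart_one (hadd : ∀ (h : H) (u v : V),
    h • (u + v) - h • (0 : V) = (h • u - h • (0 : V)) + (h • v - h • (0 : V))) (u : V) :
    lpart hadd (1 : H) u = u := by
  show (1 : H) • u - (1 : H) • (0 : V) = u
  rw [one_smul, one_smul, sub_zero]

/-- the linear part as an automorphism -/
def lequiv (hadd : ∀ (h : H) (u v : V),
    h • (u + v) - h • (0 : V) = (h • u - h • (0 : V)) + (h • v - h • (0 : V))) (h : H) : V ≃ₗ[ℤ] V :=
  AddEquiv.toIntLinearEquiv
    { toFun := lpart hadd h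
      invFun := lpart hadd h⁻¹
      left_inv := fun u => by rw [← lpart_mul, inv_mul_cancel, lpart_one]
      right_inv := fun u => by rw [← lpart_mul, mul_inv_cancel, lpart_one]
      map_add' := map_add _ }

theorem solOn_of_add (hc : AffCl A H V) (hadd : ∀ (h : H) (u v : V),
    h • (u + v) - h • (0 : V) = (h • u - h • (0 : V)) + (h • v - h • (0 : V)))
    (hs : Group.IsSolvable (clo A V)) : SolOn H V := by
  let f : H →* clo A V := MonoidHom.mk' (fun h => ⟨lequiv hadd h, mem_clo.2 fun u v => by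
      obtain ⟨g, h1, h2⟩ := hc h 0 u v
      rw [sub_zero] at h1 h2
      exact ⟨g, h1.symm, h2.symm⟩⟩)
    (fun h h' => Subtype.ext (LinearEquiv.ext fun u => lpart_mul hadd h h' u))
  obtain ⟨n, hn⟩ := ds_hom hs f
  have ht : ∀ x ∈ derivedSeries H n, ∀ u : V, x • u = u + x • (0 : V) := by
    intro x hx u
    have : x • u - x • (0 : V) = u := LinearEquiv.congr_fun (congrArg Subtype.val (hn x hx)) u
    exact sub_eq_iff_eq_add.1 this
  refine ⟨n + 1, ?_⟩
  have : derivedSeries H (n + 1) ≤ (MulAction.toPermHom H V).ker := by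
    rw [derivedSeries_succ, Subgroup.commutator_le]
    intro x hx y hy
    rw [MonoidHom.mem_ker, map_commutatorElement, commutatorElement_eq_one_iff_mul_comm]
    ext u
    show x • y • u = y • x • u
    rw [ht x hx (y • u), ht y hy (x • u), ht x hx u, ht y hy u]
    abel
  intro h hh a
  exact Equiv.congr_fun (MonoidHom.mem_ker.1 (this hh)) a

end

theorem aff (n : ℕ) (hP : P.{u} n) : AffSt.{u} n := by
  intro V A H _ _ _ _ _ _ _ _ hn hA hirr hc
  rcases dich hirr with hq | ⟨J, _, _, ⟨D⟩⟩
  · obtain ⟨K, B, _, _, _, _, _, _, Hs, hab, hcen⟩ := exists_heis hq hA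
    refine solOn_of_add hc (fun h u v => ?_) (lin Hs hab hcen hA)
    by_cases h2 : (2 : K) = 0
    · obtain ⟨x, C, hC, hx⟩ := exists_idx Hs h2 (spn Hs hcen)
      exact add_idx hirr hC hx (MulAction.injective h) (hc h) u v
    · refine add_odd (fun w hw => ?_) (hc h) u v
      rw [← two_smul K w] at hw
      exact (smul_eq_zero.1 hw).resolve_left h2
  · exact D.solOn hP hn hA hc

theorem main {Ω G H : Type u} [Finite Ω] [Group G] [Group H] [MulAction G Ω] [MulAction H Ω]
    (hG : Group.IsSolvable G) (hc : Cl3 G H Ω) : SolOn H Ω :=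
  red aff (Nat.card Ω + 1) Ω G H (Nat.lt_succ_self _) hG hc

end Cfsg.Agent.CL3
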