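import Cfsg.Agent.CL3.Semi

set_option autoImplicit false

namespace Cfsg.Agent.CL3

universe u

open Cfsg.Agent.H11

variable {K B V G : Type*} [Field K] [Group B] [AddCommGroup V] [Module K V]
  [DistribMulAction B V] [Group G] [DistribMulAction G V]

theorem nq_mul {t : V ≃+ V} {a b : B} (ha : Nrm t a) (hb : Nrm t b) : Nrm t (a * b) := by
  obtain ⟨c, hc⟩ := ha
  obtain ⟨d, hd⟩ := hb
  exact ⟨c * d, fun v => by rw [mul_smul, hc, hd, mul_smul]⟩

theorem nq_sc [Finite K] [Finite V] (H : Heis K B V G) {t : V ≃+ V} (ht : Cl2 G t) (k : Kˣ) :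
    Nrm t (H.sc k) := by
  obtain ⟨σ, hσ⟩ := semi H ht
  exact ⟨H.sc (Units.mk0 (σ k) (by simp)), fun v => by rw [H.sc_smul, H.sc_smul, hσ]; rfl⟩

theorem nq_neg (H : Heis K B V G) {q : B} (hq : q ^ 2 = H.sc (-1)) (v : V) : q • q • v = -v := by
  rw [← mul_smul, ← sq, hq, H.sc_smul, Units.val_neg, Units.val_one, neg_one_smul]

theorem nq_eig (H : Heis K B V G) (hi : ¬ IsSquare (-1 : Kˣ)) {q : B} (hq : q ^ 2 = H.sc (-1)) {w : V}
    (hw : w ≠ 0) (l : K) : q • w ≠ l • w := fun e => by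
  have h := nq_neg H hq w
  rw [e, H.lin, e, smul_smul, ← neg_one_smul K w] at h
  have h1 : l * l = -1 := smul_left_injective K hw h
  refine hi ⟨Units.mk0 l fun e => ?_, Units.ext h1.symm⟩
  rw [e, mul_zero] at h1
  exact one_ne_zero (neg_eq_zero.1 h1.symm)

theorem nq_cast (h2 : (2 : K) ≠ 0) {i j : Fin 3} (e : (i.1 : K) = j.1) : i = j := by
  have h21 : (2 : K) ≠ 1 := fun e => one_ne_zero (α := K) (by linear_combination e)
  have h12 := h21.symm
  have h02 := h2.symm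
  fin_cases i <;> fin_cases j <;> first | rfl | exact absurd e (by simpa)

theorem nq_main [Finite B] [Finite K] [Finite V] (H : Heis K B V G) (h2 : (2 : K) ≠ 0)
    (hi : ¬ IsSquare (-1 : Kˣ)) {t : V ≃+ V} (ht : Cl2 G t) {Q : Subgroup B}
    (hQ : ∀ g, ∀ q ∈ Q, H.α g q ∈ Q)
    (hns : ∀ q ∈ Q, (∃ k, q = H.sc k) ∨ ∃ ν : Kˣ, q ^ 2 = H.sc ν ∧ ¬ IsSquare ν)
    (h3 : ∃ f : B → Fin 3, ∀ q ∈ Q, ∀ q' ∈ Q, (¬ ∃ k, q = H.sc k) → (¬ ∃ k, q' = H.sc k) → f q = f q' →
      ∃ k, q⁻¹ * q' = H.sc k) {c : B} (hc : c ∈ Q) (cc : c ^ 2 = H.sc (-1)) : Nrm t c := by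
  classical
  obtain ⟨f, hf⟩ := h3
  let J := {q : B // q ∈ Q ∧ q ^ 2 = H.sc (-1)}
  let W : J → AddSubgroup V := fun q =>
    { carrier := {w | t (c • t.symm w) = q.1 • w}
      zero_mem' := by simp
      add_mem' := fun {a b} ha hb => by
        simp only [Set.mem_ofPred_eq, map_add, smul_add] at ha hb ⊢
        rw [ha, hb]
      neg_mem' := fun {a} ha => by
        simp only [Set.mem_ofPred_eq, map_neg, smul_neg] at ha ⊢
        rw [ha] }
  have hW : ∀ q w, w ∈ W q ↔ t (c • t.symm w) = q.1 • w := fun _ _ => Iff.rfl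
  have hcov : ∀ v : V, ∃ q, v ∈ W q := fun v => by
    obtain ⟨g, h1, h2⟩ := ht (t.symm v) (c • t.symm v)
    refine ⟨⟨H.α g c, hQ g c hc, H.ext_smul fun u => ?_⟩, (hW _ _).2 ?_⟩
    · obtain ⟨u, rfl⟩ := MulAction.surjective g u
      dsimp only
      rw [← map_pow, ← H.compat, cc, H.sc_smul, H.sc_smul, Units.val_neg, Units.val_one, neg_one_smul,
        neg_one_smul, smul_neg]
    · rw [← h2, H.compat, h1, t.apply_symm_apply]
  have hdis : ∀ i j, i ≠ j → ∀ v ∈ W i, v ∈ W j → v = 0 := fun i j hij v h1 h2 => by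
    by_contra hv
    have e : (i.1⁻¹ * j.1) • v = v := by
      rw [mul_smul, ← (hW _ _).1 h2, (hW _ _).1 h1, inv_smul_smul]
    rcases hns _ (Q.mul_mem (Q.inv_mem i.2.1) j.2.1) with ⟨k, hk⟩ | ⟨ν, hν, hn⟩
    · have : k = 1 := Heis.unit_eq hv (by rw [← H.sc_smul, ← hk, e, Units.val_one, one_smul])
      rw [this, map_one, inv_mul_eq_one] at hk
      exact hij (Subtype.ext hk)
    · have : ν = 1 := Heis.unit_eq hv (by
        rw [← H.sc_smul, ← hν, sq, mul_smul, e, e, Units.val_one, one_smul])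
      exact hn (this ▸ IsSquare.one)
  rcases part W hcov hdis with ⟨q, hq⟩ | h
  · refine ⟨q, fun v => ?_⟩
    have := (hW q (t v)).1 (hq ▸ AddSubgroup.mem_top _)
    rwa [t.symm_apply_apply] at this
  exfalso
  obtain ⟨w, hw⟩ := H.nt
  obtain ⟨q, hq⟩ := hcov w
  have ns : ∀ j : J, ¬ ∃ k, j.1 = H.sc k := fun j ⟨k, hk⟩ =>
    nq_eig H hi j.2.2 hw k (by rw [hk, H.sc_smul])
  have two : ∀ i j : J, f i.1 = f j.1 → j ≠ i → j.1 = i.1 * H.sc (-1) := fun i j e hne => by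
    obtain ⟨k, hk⟩ := hf _ i.2.1 _ j.2.1 (ns i) (ns j) e
    have e1 : j.1 = i.1 * H.sc k := by rw [← hk, mul_inv_cancel_left]
    have e2 := j.2.2
    rw [e1, Commute.mul_pow (H.sc_comm k i.1).symm, i.2.2, mul_eq_left, ← map_pow, ← map_one H.sc] at e2
    have e3 : (k : K) ^ 2 = 1 := by rw [← Units.val_pow_eq_pow_val, H.sc_inj e2, Units.val_one]
    rcases sq_eq_one_iff.1 e3 with h | h
    · rw [show k = 1 from Units.ext h, map_one, mul_one] at e1
      exact absurd (Subtype.ext e1) hne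
    · rw [e1, show k = -1 from Units.ext h]
  have : Nonempty J := ⟨q⟩
  let r : J → J := fun j => Function.invFun (fun i : J => f i.1) (f j.1)
  have hr : ∀ j, f (r j).1 = f j.1 := fun j => Function.invFun_eq (f := fun i : J => f i.1) ⟨j, rfl⟩
  have c1 : Nat.card J ≤ Nat.card (Fin 3 × Bool) := by
    refine Nat.card_le_card_of_injective (fun j => (f j.1, decide (j = r j))) fun i j e => ?_
    obtain ⟨e1, e2⟩ := Prod.mk.inj e
    have e3 : r i = r j := congrArg (Function.invFun fun i : J => f i.1) e1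
    by_cases hj : j = r j
    · exact ((decide_eq_decide.1 e2).2 hj).trans (e3.trans hj.symm)
    · refine Subtype.ext ((two _ _ (hr i) (mt (decide_eq_decide.1 e2).1 hj)).trans ?_)
      rw [e3, ← two _ _ (hr j) hj]
  have hq' : q.1 • w ∈ W q := by
    rw [hW, nq_neg H q.2.2, ← (hW _ _).1 hq, t.symm_apply_apply, nq_neg H cc, map_neg, t.apply_symm_apply]
  have c2 : Nat.card (Fin 3 × Bool) ≤ Nat.card (W q) := by
    refine Nat.card_le_card_of_injective (fun x => (⟨x.1.1 • w + (if x.2 then q.1 • w else 0),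
      add_mem (nsmul_mem hq _) (by split_ifs; exacts [hq', zero_mem _])⟩ : W q)) ?_
    rintro ⟨i, a⟩ ⟨j, b⟩ e
    have e1 : ((i.1 : K)) • w + (if a then q.1 • w else 0) = ((j.1 : K)) • w + (if b then q.1 • w else 0) := by
      rw [Nat.cast_smul_eq_nsmul, Nat.cast_smul_eq_nsmul]; exact congrArg Subtype.val e
    have same : ((i.1 : K)) • w = ((j.1 : K)) • w → i = j := fun e => by
      have e2 : (i.1 : K) = j.1 := smul_left_injective K hw e
      exact nq_cast h2 e2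
    cases a <;> cases b
    · rw [same (add_right_cancel e1)]
    · refine absurd ?_ (nq_eig H hi q.2.2 hw ((i.1 : K) - j.1))
      simp only [Bool.false_eq_true, if_false, if_true, add_zero] at e1
      rw [sub_smul, e1, add_sub_cancel_left]
    · refine absurd ?_ (nq_eig H hi q.2.2 hw ((j.1 : K) - i.1))
      simp only [Bool.false_eq_true, if_false, if_true, add_zero] at e1
      rw [sub_smul, ← e1, add_sub_cancel_left]
    · rw [same (add_right_cancel e1)]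
  exact absurd (h q).2 (not_lt.2 (c1.trans c2))

theorem nrm_quat [Finite B] [Finite K] [Finite V] (H : Heis K B V G) (h2 : (2 : K) ≠ 0)
    (hi : ¬ IsSquare (-1 : Kˣ)) {t : V ≃+ V} (ht : Cl2 G t) {Q : Subgroup B}
    (hQ : ∀ g, ∀ q ∈ Q, H.α g q ∈ Q) (hZ : ∀ k, H.sc k ∈ Q)
    (hns : ∀ q ∈ Q, (∃ k, q = H.sc k) ∨ ∃ ν : Kˣ, q ^ 2 = H.sc ν ∧ ¬ IsSquare ν)
    (h3 : ∃ f : B → Fin 3, ∀ q ∈ Q, ∀ q' ∈ Q, (¬ ∃ k, q = H.sc k) → (¬ ∃ k, q' = H.sc k) → f q = f q' →
      ∃ k, q⁻¹ * q' = H.sc k) {c : B} (hc : c ∈ Q) : Nrm t c := by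
  rcases hns c hc with ⟨k, rfl⟩ | ⟨ν, hν, hn⟩
  · exact nq_sc H ht k
  obtain ⟨θ, hθ⟩ := isSquare_mul_cyc hi hn
  have h := nq_main H h2 hi ht hQ hns h3 (Q.mul_mem (hZ θ⁻¹) hc) (by
    rw [Commute.mul_pow (H.sc_comm θ⁻¹ c), hν, ← map_pow, ← map_mul, inv_pow, sq, ← hθ, mul_inv_rev,
      mul_right_comm, inv_mul_cancel, one_mul, inv_neg, inv_one])
  have := nq_mul (nq_sc H ht θ) h
  rwa [← mul_assoc, ← map_mul, mul_inv_cancel, map_one, one_mul] at this

end Cfsg.Agent.CL3
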