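import Cfsg.Agent.CL3.NX
import Cfsg.Agent.CL3.NQ

set_option autoImplicit false

namespace Cfsg.Agent.CL3

universe u

open Cfsg.Agent.H11

variable {K B V G : Type*} [Field K] [Group B] [AddCommGroup V] [Module K V]
  [DistribMulAction B V] [Group G] [DistribMulAction G V]

/-- the elements conjugated into `B` by `t` -/
def nb_N (B : Type*) {V : Type*} [Group B] [AddCommGroup V] [DistribMulAction B V] (t : V ≃+ V) :
    Subgroup B where
  carrier := {b | Nrm t b}
  one_mem' := ⟨1, fun v => by rw [one_smul, one_smul]⟩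
  mul_mem' := by
    rintro a b ⟨c, hc⟩ ⟨d, hd⟩
    exact ⟨c * d, fun v => by rw [mul_smul, mul_smul, hc, hd]⟩
  inv_mem' := by
    rintro a ⟨c, hc⟩
    exact ⟨c⁻¹, fun v => by rw [eq_inv_smul_iff, ← hc, smul_inv_smul]⟩

theorem nrm_all [Finite B] [Finite K] [Finite V] (H : Heis K B V G) (hab : Ab H) (hs : Spn K B V)
    {t : V ≃+ V} (ht : Cl2 G t) (b : B) : Nrm t b := by
  classical
  set D : Subgroup B := Subgroup.closure {b | ∃ x, H.Mx x ∧ b ∈ H.St x} with hD
  have hSt : ∀ x, H.Mx x → H.St x ≤ D := fun x hx b hb => Subgroup.subset_closure ⟨x, hx, hb⟩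
  have hDN : D ≤ nb_N B t := (Subgroup.closure_le _).2 fun b ⟨x, hx, hb⟩ => nrm_St H hs ht hx hb
  have hDi : ∀ g, ∀ d ∈ D, H.α g d ∈ D := fun g d hd => by
    have : D ≤ D.comap (H.α g).toMonoidHom := (Subgroup.closure_le _).2 fun b ⟨x, hx, hb⟩ =>
      hSt _ (mx_smul H g hx) ((mem_St_smul H g x b).2 hb)
    exact this hd
  have hDs : ∀ k, H.sc k ∈ D := fun k => by
    obtain ⟨x, hx⟩ := H.exists_mx
    exact hSt x hx (H.sc_mem_St x k)
  set Q : Subgroup B := Subgroup.centralizer (D : Set B) with hQ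
  have hQi : ∀ g, ∀ q ∈ Q, H.α g q ∈ Q := fun g q hq d hd => by
    have := congrArg (H.α g) (hq _ (hDi g⁻¹ d hd))
    rwa [map_mul, map_mul, H.alpha_inv'] at this
  have hQD : ∀ q ∈ Q, q ∈ D → ∃ k, q = H.sc k := fun q hq hd =>
    hab (Q ⊓ D) (fun g d h => ⟨hQi g d h.1, hDi g d h.2⟩) (fun a ha c hc => hc.1 a ha.2) q ⟨hq, hd⟩
  have hQN : Q ≤ nb_N B t := by
    obtain ⟨x, hx, h⟩ := H.exists_struct
    have hP : Q ≤ H.Pc x := Subgroup.centralizer_le (hSt x hx)
    have hsc : ∀ q ∈ Q, q ∈ H.St x → ∃ k, q = H.sc k := fun q hq h => hQD q hq (hSt x hx h)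
    rcases h with h | ⟨a, -, d, -, γ, -, h2, -, -, -, hi, -, h4⟩
    · exact fun q hq => hDN (hSt x hx (h ▸ hP hq))
    refine fun c hc => nrm_quat H h2 hi ht hQi (H.sc_mem_cent D) (fun q hq => ?_)
      ⟨fun q => if a⁻¹ * q ∈ H.St x then 0 else if d⁻¹ * q ∈ H.St x then 1 else 2,
        fun q hq q' hq' n n' e => ?_⟩ hc
    · obtain ⟨ν, hν⟩ := hsc _ (pow_mem hq 2) (hx.sq_mem H (hP hq))
      by_cases hsq : IsSquare ν
      · exact .inl (hsc q hq (hx.mem_of_sq H h2 (hP hq) (by rw [hν, H.sc_smul]) hsq))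
      · exact .inr ⟨ν, hν, hsq⟩
    · have key : ∀ y : B, y⁻¹ * q ∈ H.St x → y⁻¹ * q' ∈ H.St x → ∃ k, q⁻¹ * q' = H.sc k :=
        fun y h1 h1' => hsc _ (mul_mem (inv_mem hq) hq') (by
          have := mul_mem (inv_mem h1) h1'
          rwa [mul_inv_rev, inv_inv, mul_assoc, mul_inv_cancel_left] at this)
      have m := (h4 q (hP hq)).resolve_left fun h => n (hsc q hq h)
      have m' := (h4 q' (hP hq')).resolve_left fun h => n' (hsc q' hq' h)
      dsimp only at e
      split_ifs at e with e1 e2 e3 e4 e5 e6 e7 e8 <;> first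
        | exact absurd e (by decide)
        | exact key a ‹_› ‹_›
        | exact key d ‹_› ‹_›
        | exact key (a * d) (by tauto) (by tauto)
  have hb : b ∈ D ⊔ Q := H.mem_of_cm (fun k => Subgroup.mem_sup_left (hDs k)) fun p hp => by
    have h1 : p ∈ Q := Subgroup.centralizer_le (le_sup_left : D ≤ D ⊔ Q) hp
    have h2 : p ∈ D := by
      rw [← H.cent_cent hDs]
      exact Subgroup.centralizer_le (le_sup_right : Q ≤ D ⊔ Q) hp
    obtain ⟨k, rfl⟩ := hQD p h1 h2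
    exact H.cm_sc_left k b
  exact sup_le hDN hQN hb

end Cfsg.Agent.CL3
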