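import Cfsg.Agent.CL3.Rel

set_option autoImplicit false

namespace Cfsg.Agent.CL3

universe u

open Cfsg.Agent.H11

variable {K B V G : Type*} [Field K] [Group B] [AddCommGroup V] [Module K V]
  [DistribMulAction B V] [Group G] [DistribMulAction G V]

theorem nx_sub (H : Heis K B V G) {x v w : V} {ω : B ⧸ H.Pc x} (hv : H.Cp x ω v) (hw : H.Cp x ω w) :
    H.Cp x ω (v - w) := by
  unfold Heis.Cp at *
  rw [smul_sub]
  exact Submodule.sub_mem _ hv hw

theorem nx_smul (H : Heis K B V G) {x v : V} {ω : B ⧸ H.Pc x} (hv : H.Cp x ω v) (k : K) :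
    H.Cp x ω (k • v) := by
  unfold Heis.Cp at *
  rw [H.lin]
  exact Submodule.smul_mem _ _ hv

theorem nx_comp (H : Heis K B V G) {x : V} [Fintype (B ⧸ H.Pc x)] {f g : B ⧸ H.Pc x → V}
    (hf : ∀ ω, H.Cp x ω (f ω)) (hg : ∀ ω, H.Cp x ω (g ω)) (h : ∑ ω, f ω = ∑ ω, g ω) (ω : B ⧸ H.Pc x) :
    f ω = g ω :=
  sub_eq_zero.1 (H.cp_indep Finset.univ (fun ω => f ω - g ω) (fun ω _ => nx_sub H (hf ω) (hg ω))
    (by rw [Finset.sum_sub_distrib, h, sub_self]) ω (Finset.mem_univ _))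

theorem nx_main [Finite B] [Finite K] [Finite V] (H : Heis K B V G) (hs : Spn K B V) {t : V ≃+ V}
    (ht : Cl2 G t) {x : V} (hx : H.Mx x) (htx : t x = x) {s : B} (h : s ∈ H.St x) : Nrm t s := by
  classical
  obtain ⟨σ, hσ⟩ := semi H ht
  obtain ⟨ρ, hρ⟩ := exists_cperm H hx ht htx
  by_cases hn : ∃ k, s = H.sc k
  · obtain ⟨k, rfl⟩ := hn
    refine ⟨H.sc (Units.map σ.toMonoidHom k), fun v => ?_⟩
    rw [H.sc_smul, H.sc_smul, hσ]
    rfl
  haveI := Fintype.ofFinite (B ⧸ H.Pc x)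
  obtain ⟨k, hk⟩ := H.mem_St.1 h
  have hb : ∀ b : B, H.Cp x (b : B ⧸ H.Pc x) (b • x) := fun b => H.cp_smul rfl (H.self_mem_Eig _ _)
  let E : B ⧸ H.Pc x → V := fun η => (ρ.symm η).out • x
  have hE : ∀ η, H.Cp x (ρ.symm η) (E η) := fun η =>
    H.cp_smul (QuotientGroup.out_eq' _) (H.self_mem_Eig _ _)
  have hF : ∀ η, H.Cp x η (t (E η)) := fun η => by
    have := hρ _ _ (hE η)
    rwa [ρ.apply_symm_apply] at this
  have hF0 : ∀ η, t (E η) ≠ 0 := fun η e => hx.1 (by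
    have := t.map_eq_zero_iff.1 e
    exact (smul_eq_zero_iff_eq _).1 this)
  let μ : B ⧸ H.Pc x → K := fun ω => σ ((H.cm s ω.out * k : Kˣ) : K)
  have hμ : ∀ ω w, H.Cp x ω w → t (s • w) = μ ω • t w := fun ω w hw => by
    rw [cp_ev H hw h hk, hσ]
  let E0 : B ⧸ H.Pc x → V := fun η => if η = 1 then 0 else E η
  have hE0 : ∀ η, H.Cp x (ρ.symm η) (E0 η) := fun η => by
    simp only [E0]
    split_ifs
    exacts [H.cp_zero _ _, hE η]
  have hF1 : ∀ η, H.Cp x η (t (E0 η)) := fun η => by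
    have := hρ _ _ (hE0 η)
    rwa [ρ.apply_symm_apply] at this
  obtain ⟨g, hg1, hg2⟩ := ht (∑ η, E0 η) (s • ∑ η, E0 η)
  set c := H.α g s with hc
  have key : ∀ η, c • t (E0 ((c : B ⧸ H.Pc x)⁻¹ * η)) = μ (ρ.symm η) • t (E0 η) := by
    refine nx_comp H (fun η => ?_) (fun η => nx_smul H (hF1 η) _) ?_
    · have := cp_shift H (hF1 ((c : B ⧸ H.Pc x)⁻¹ * η)) c
      rwa [mul_inv_cancel_left] at this
    · rw [H.compat, ← hc, hg1, Finset.smul_sum, map_sum, map_sum, Finset.smul_sum] at hg2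
      refine ((Equiv.sum_comp (Equiv.mulLeft (c : B ⧸ H.Pc x)⁻¹) (fun η => c • t (E0 η))).trans hg2).trans ?_
      exact Finset.sum_congr rfl fun η _ => hμ _ _ (hE0 η)
  have hc1 : (c : B ⧸ H.Pc x)⁻¹ = 1 := by
    by_contra hne
    have := key 1
    simp only [E0, mul_one, if_neg hne, if_true, map_zero, smul_zero] at this
    exact hF0 _ ((smul_eq_zero_iff_eq _).1 this)
  have key2 : ∀ η, η ≠ 1 → c • t (E η) = μ (ρ.symm η) • t (E η) := fun η hη => by
    have := key η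
    simpa only [hc1, one_mul, E0, if_neg hη] using this
  have hsum := sum_cm H h hn
  obtain ⟨η₁, hη₁⟩ : ∃ η : B ⧸ H.Pc x, η ≠ 1 := by
    by_contra hall
    push Not at hall
    rw [Finset.sum_eq_single (1 : B ⧸ H.Pc x) (fun b _ hb => absurd (hall b) hb)
      (fun hb => absurd (Finset.mem_univ _) hb)] at hsum
    exact Units.ne_zero _ hsum
  have hcS : c ∈ H.St x := by
    rw [← cp_St H hx (hF η₁) (hF0 η₁)]
    exact H.mem_St_of (hF0 η₁) (key2 η₁ hη₁)
  obtain ⟨k', hk'⟩ := H.mem_St.1 hcS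
  have hcn : ¬ ∃ k, c = H.sc k := by
    rintro ⟨k1, e⟩
    obtain ⟨k2, e2⟩ := H.exists_alpha_sc g⁻¹ k1
    exact hn ⟨k2, by rw [← e2, ← e, hc, H.alpha_inv]⟩
  let ν : B ⧸ H.Pc x → K := fun η => ((H.cm c η.out * k' : Kˣ) : K)
  have hνμ : ∀ η, η ≠ 1 → ν η = μ (ρ.symm η) := fun η hη => by
    have := key2 η hη
    rw [cp_ev H (hF η) hcS hk'] at this
    exact smul_left_injective K (hF0 η) this
  have hν0 : ∑ η, ν η = 0 := by
    simp only [ν, Units.val_mul, ← Finset.sum_mul, sum_cm H hcS hcn, zero_mul]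
  have hμ0 : ∑ η, μ (ρ.symm η) = 0 := by
    rw [Equiv.sum_comp ρ.symm μ]
    simp only [μ, Units.val_mul, ← map_sum, ← Finset.sum_mul, hsum, zero_mul, map_zero]
  have hall : ∀ η, ν η = μ (ρ.symm η) := fun η => by
    by_cases hη : η = 1
    · subst hη
      have e := hν0.trans hμ0.symm
      rw [← Finset.add_sum_erase _ _ (Finset.mem_univ (1 : B ⧸ H.Pc x)),
        ← Finset.add_sum_erase _ (fun η => μ (ρ.symm η)) (Finset.mem_univ (1 : B ⧸ H.Pc x)),
        Finset.sum_congr rfl fun η hη => hνμ η (Finset.ne_of_mem_erase hη)] at e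
      exact add_right_cancel e
    · exact hνμ η hη
  refine ⟨c, fun v => ?_⟩
  have hv : v ∈ Submodule.span K (Set.range fun b : B => b • x) := by
    rw [hs x hx.1]; exact Submodule.mem_top
  induction hv using Submodule.span_induction with
  | mem v hv =>
    obtain ⟨b, rfl⟩ := hv
    have e := hall (ρ b)
    rw [ρ.symm_apply_apply] at e
    rw [hμ _ _ (hb b), cp_ev H (hρ _ _ (hb b)) hcS hk', ← e]
  | zero => simp
  | add v w _ _ hv hw => rw [smul_add, map_add, map_add, smul_add, hv, hw]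
  | smul a v _ hv => rw [H.lin, hσ, hσ, hv, H.lin]

theorem nrm_St [Finite B] [Finite K] [Finite V] (H : Heis K B V G) (hs : Spn K B V) {t : V ≃+ V}
    (ht : Cl2 G t) {x : V} (hx : H.Mx x) {s : B} (h : s ∈ H.St x) : Nrm t s := by
  obtain ⟨g, hg, -⟩ := ht x x
  obtain ⟨c, hc⟩ := nx_main H hs (ht.comp g⁻¹) hx (show g⁻¹ • t x = x by rw [← hg, inv_smul_smul]) h
  refine ⟨H.α g c, fun v => ?_⟩
  have e : g⁻¹ • t (s • v) = c • g⁻¹ • t v := hc v
  rw [inv_smul_eq_iff, H.compat, smul_inv_smul] at e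
  exact e

end Cfsg.Agent.CL3
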