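import Cfsg.Agent.CL3.Defs
import Cfsg.Agent.S0548
import Cfsg.Agent.H2.MinNormal

set_option autoImplicit false

namespace Cfsg.Agent.CL3

universe u

open Cfsg.Agent.H11

theorem prim_red {n : ℕ} (hA : AffSt.{u} n) {Ω G H : Type u} [Finite Ω] [Nontrivial Ω] [Group G]
    [Finite G] [Group H] [MulAction G Ω] [FaithfulSMul G Ω] [MulAction H Ω] (hn : Nat.card Ω = n)
    (hG : Group.IsSolvable G) (hp : MulAction.IsPreprimitive G Ω) (hc : Cl3 G H Ω) : SolOn H Ω := by
  obtain ⟨ω, ω', hω⟩ := exists_pair_ne Ω
  have : Nontrivial G := by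
    obtain ⟨g, hg⟩ := MulAction.exists_smul_eq G ω ω'
    exact ⟨g, 1, fun e => hω (by rw [← hg, e, one_smul])⟩
  obtain ⟨M, p, -, hN, h0, hM, -, -, hmin⟩ := H2.exists_minimal_normal_of_solvable (G := G)
  obtain ⟨h1, -, h3⟩ := S0548.result hp M h0 hmin ω
  have dec : ∀ g : G, ∃ (m : M) (a : MulAction.stabilizer G ω), g = m * a := fun g => by
    obtain ⟨⟨m, a⟩, e⟩ := h1.2 g
    exact ⟨m, a, e.symm⟩
  have hb : Function.Bijective fun m : Additive M => ((m.toMul : M) : G) • ω := by
    refine ⟨fun a b e => ?_, fun x => ?_⟩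
    · have e1 : ((b.toMul : M) : G)⁻¹ * (a.toMul : M) ∈ MulAction.stabilizer G ω := by
        rw [MulAction.mem_stabilizer_iff, mul_smul, inv_smul_eq_iff]
        exact e
      have e2 := Subgroup.disjoint_def.1 h1.disjoint (mul_mem (inv_mem b.toMul.2) a.toMul.2) e1
      exact Additive.toMul.injective (Subtype.ext (inv_mul_eq_one.1 e2).symm)
    · obtain ⟨g, rfl⟩ := MulAction.exists_smul_eq G ω x
      obtain ⟨m, a, rfl⟩ := dec g
      exact ⟨Additive.ofMul m, by rw [mul_smul, show (a : G) • ω = ω from a.2]; rfl⟩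
  let e := Equiv.ofBijective _ hb
  have he : ∀ v, e v = ((v.toMul : M) : G) • ω := fun _ => rfl
  let _ : CommGroup M := { (inferInstance : Group M) with mul_comm := hM.1.1 }
  let _ : DistribMulAction (MulAction.stabilizer G ω) (Additive M) :=
    { smul := fun a v => Additive.ofMul (MulAut.conjNormal (a : G) v.toMul)
      one_smul := fun v => Additive.toMul.injective (Subtype.ext (by
        change (1 : G) * _ * 1⁻¹ = _
        simp))
      mul_smul := fun a b v => Additive.toMul.injective (Subtype.ext (by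
        change (a : G) * b * _ * ((a : G) * b)⁻¹ = a * (b * _ * (b : G)⁻¹) * (a : G)⁻¹
        group))
      smul_zero := fun a => congrArg Additive.ofMul (map_one (MulAut.conjNormal (H := M) (a : G)))
      smul_add := fun a v w => congrArg Additive.ofMul
        (map_mul (MulAut.conjNormal (H := M) (a : G)) v.toMul w.toMul) }
  have sm : ∀ (a : MulAction.stabilizer G ω) (v : Additive M),
      (((a • v).toMul : M) : G) = a * (v.toMul : M) * (a : G)⁻¹ := fun _ _ => rfl
  let _ : MulAction H (Additive M) :=
    { smul := fun h v => e.symm (h • e v)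
      one_smul := fun v => by
        change e.symm (1 • e v) = v
        rw [one_smul, e.symm_apply_apply]
      mul_smul := fun a b v => by
        change e.symm ((a * b) • e v) = e.symm (a • e (e.symm (b • e v)))
        rw [e.apply_symm_apply, mul_smul] }
  have sh : ∀ (h : H) (v : Additive M), h • v = e.symm (h • e v) := fun _ _ => rfl
  have : Nontrivial (Additive M) := e.nontrivial
  have key : ∀ (m : M) (a : MulAction.stabilizer G ω) (v : Additive M),
      e.symm (((m : G) * a) • e v) = Additive.ofMul m + a • v := fun m a v => by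
    rw [Equiv.symm_apply_eq, he, he, toMul_add, Subgroup.coe_mul, sm, toMul_ofMul, smul_smul,
      ← mul_assoc, mul_smul _ (a : G)⁻¹, show (a : G)⁻¹ • ω = ω from a⁻¹.2, mul_assoc]
  obtain ⟨k, hk⟩ := hA (Additive M) (MulAction.stabilizer G ω) H ((Nat.card_congr e).trans hn)
    inferInstance (fun U hU => by
      rcases h3 ((AddSubgroup.toSubgroup U).map (M.subtype.comp (MulEquiv.multiplicativeAdditive M).toMonoidHom))
        (by rintro _ ⟨x, -, rfl⟩; exact Subtype.prop _)
        (fun a ha => Subgroup.mem_normalizer_fintype (by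
          rintro _ ⟨x, hx, rfl⟩
          exact ⟨Multiplicative.ofAdd ((⟨a, ha⟩ : MulAction.stabilizer G ω) • x.toAdd), hU _ _ hx, rfl⟩))
        with h | h
      · left
        rw [eq_bot_iff]
        intro x hx
        have : ((x.toMul : M) : G) ∈ (⊥ : Subgroup G) := h ▸ ⟨Multiplicative.ofAdd x, hx, rfl⟩
        exact Additive.toMul.injective (Subtype.ext this)
      · right
        rw [eq_top_iff]
        intro x _
        obtain ⟨y, hy, e'⟩ := h.ge x.toMul.2
        have : y.toAdd = x := Additive.toMul.injective (Subtype.ext e')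
        exact this ▸ hy) (fun h a b c => by
      obtain ⟨g, g1, g2, g3⟩ := hc h (e a) (e b) (e c)
      obtain ⟨m, s, rfl⟩ := dec g
      refine ⟨s, ?_, ?_⟩ <;> simp only [sh, ← g1, ← g2, ← g3, key, smul_sub] <;> abel)
  refine ⟨k, fun h hh a => ?_⟩
  have := hk h hh (e.symm a)
  rwa [sh, e.apply_symm_apply, e.symm.apply_eq_iff_eq] at this

end Cfsg.Agent.CL3
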