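import Cfsg.Agent.CL3.RedA
import Cfsg.Agent.CL3.RedB

/-! The 3-closure of a solvable permutation group: induction on the degree. -/

set_option autoImplicit false

namespace Cfsg.Agent.CL3

universe u

open Cfsg.Agent.H11 MulAction

theorem red_step {n : ℕ} (hP : P.{u} n) (hA : AffSt.{u} n) {Ω G H : Type u} [Finite Ω] [Group G] [Finite G]
    [Group H] [MulAction G Ω] [FaithfulSMul G Ω] [MulAction H Ω] (hn : Nat.card Ω = n)
    (hG : Group.IsSolvable G) (hc : Cl3 G H Ω) : SolOn H Ω := by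
  by_cases h0 : ∀ (g : G) (a : Ω), g • a = a
  · exact ⟨0, fun h _ a => let ⟨g, e, _⟩ := hc h a a a; e.symm.trans (h0 g a)⟩
  push Not at h0
  obtain ⟨g₀, a₀, h0⟩ := h0
  haveI : Nontrivial Ω := ⟨⟨_, _, h0⟩⟩
  by_cases ht : IsPretransitive G Ω
  swap
  · refine setoid_red hP hn hG hc (orbitRel G Ω) (fun g a b ⟨k, e⟩ => ⟨g * k * g⁻¹, ?_⟩) ⟨_, _, h0, g₀, rfl⟩ ?_
    · simp only [mul_smul, inv_smul_smul]
      exact congrArg (g • ·) e
    · by_contra! k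
      exact ht ⟨fun a b => k b a⟩
  by_cases hp : IsPreprimitive G Ω
  · exact prim_red hA hn hG hp hc
  obtain ⟨B, hB, hB'⟩ : ∃ B : Set Ω, IsBlock G B ∧ ¬ IsTrivialBlock B := by
    by_contra! k
    exact hp ⟨fun {B} => k B⟩
  rw [IsTrivialBlock, not_or, Set.not_subsingleton_iff, ← ne_eq, Set.ne_univ_iff_exists_notMem] at hB'
  obtain ⟨⟨a, ha, b, hb, hab⟩, c, hc'⟩ := hB'
  have key : ∀ {g : G} {x y : Ω}, x ∈ B → g • x ∈ B → y ∈ B → g • y ∈ B := fun {g x y} h1 h2 h3 => by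
    rw [← hB.smul_eq_of_mem h1 h2]
    exact Set.smul_mem_smul_set h3
  refine setoid_red hP hn hG hc ⟨fun x y => ∃ g : G, g • x ∈ B ∧ g • y ∈ B, fun x => ?_, fun ⟨g, e1, e2⟩ => ⟨g, e2, e1⟩,
    fun ⟨g, e1, e2⟩ ⟨k, e3, e4⟩ => ⟨g, e1, ?_⟩⟩ (fun g x y ⟨k, e⟩ => ⟨k * g⁻¹, ?_⟩)
    ⟨a, b, hab, 1, by rwa [one_smul], by rwa [one_smul]⟩ ⟨a, c, fun ⟨g, e1, e2⟩ => hc' ?_⟩
  · obtain ⟨g, e⟩ := exists_smul_eq G x a
    exact ⟨g, e ▸ ha, e ▸ ha⟩
  · simpa only [mul_smul, inv_smul_smul] using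
      key (g := g * k⁻¹) e3 (by simpa only [mul_smul, inv_smul_smul] using e2) e4
  · simpa only [mul_smul, inv_smul_smul] using e
  · simpa only [inv_smul_smul] using key (g := g⁻¹) e1 (by simpa only [inv_smul_smul] using ha) e2

theorem red (h : ∀ n, P.{u} n → AffSt.{u} n) (n : ℕ) : P.{u} n := by
  induction n with
  | zero => exact fun _ _ _ _ _ _ _ _ k => absurd k (Nat.not_lt_zero _)
  | succ n ih =>
    intro Ω G H _ _ _ _ _ k hG hc
    rcases Nat.lt_succ_iff_lt_or_eq.1 k with k | k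
    · exact ih Ω G H k hG hc
    exact red_step (G := (toPermHom G Ω).range) ih (h n ih) k
      (solvable_of_surjective (toPermHom G Ω).rangeRestrict_surjective) fun x a b c =>
        let ⟨g, e⟩ := hc x a b c; ⟨⟨_, g, rfl⟩, e⟩

end Cfsg.Agent.CL3
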