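import Cfsg.Agent.CL3.Defs

set_option autoImplicit false

namespace Cfsg.Agent.CL3

universe u

open Cfsg.Agent.H11

namespace RedA

variable {Ω X : Type*} [Group X] [MulAction X Ω]

/-- the action on the classes -/
@[reducible] def quo (r : Setoid Ω) (hr : ∀ (g : X) (a b : Ω), r a b → r (g • a) (g • b)) :
    MulAction X (Quotient r) where
  smul g := Quotient.map' (g • ·) (hr g)
  one_smul q := Quotient.inductionOn' q fun a => congrArg Quotient.mk'' (one_smul X a)
  mul_smul g h q := Quotient.inductionOn' q fun a => congrArg Quotient.mk'' (mul_smul g h a)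

/-- the action on one class -/
@[reducible] def cls (r : Setoid Ω) (b : Ω) (Y : Subgroup X) (hY : ∀ y ∈ Y, ∀ a, r a b → r (y • a) b) :
    MulAction Y {a // r a b} where
  smul y a := ⟨(y : X) • a.1, hY y y.2 a a.2⟩
  one_smul a := Subtype.ext (one_smul X a.1)
  mul_smul g h a := Subtype.ext (mul_smul (g : X) (h : X) a.1)

/-- the stabiliser of a class -/
def stb (r : Setoid Ω) (hr : ∀ (g : X) (a b : Ω), r a b → r (g • a) (g • b)) (b : Ω) : Subgroup X where
  carrier := {g | r (g • b) b}
  one_mem' := by simpa using r.refl b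
  mul_mem' := fun {g h} hg hh => by
    simpa only [Set.mem_setOf_eq, mul_smul] using r.trans (hr g _ _ hh) hg
  inv_mem' := fun {g} hg => by
    simpa only [Set.mem_setOf_eq, inv_smul_smul] using r.symm (hr g⁻¹ _ _ hg)

end RedA

open RedA

theorem setoid_red {n : ℕ} (hP : P.{u} n) {Ω G H : Type u} [Finite Ω] [Group G] [Group H]
    [MulAction G Ω] [MulAction H Ω] (hn : Nat.card Ω = n) (hG : Group.IsSolvable G) (hc : Cl3 G H Ω)
    (r : Setoid Ω) (hr : ∀ (g : G) (a b : Ω), r a b → r (g • a) (g • b))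
    (h1 : ∃ a b : Ω, a ≠ b ∧ r a b) (h2 : ∃ a b : Ω, ¬ r a b) : SolOn H Ω := by
  have hH : ∀ (h : H) (a b : Ω), r a b → r (h • a) (h • b) := fun h a b e => by
    obtain ⟨g, e1, e2, -⟩ := hc h a b b
    exact e1 ▸ e2 ▸ hr g a b e
  let N : Subgroup H := ⨅ b, stb r hH b
  have hN : ∀ h, h ∈ N ↔ ∀ b, r (h • b) b := fun h => Subgroup.mem_iInf
  refine SolOn.ext (N := N) ?_ ?_
  · letI := quo r hr
    letI := quo r hH
    obtain ⟨m, hm⟩ := hP (Quotient r) G H (by
      obtain ⟨a, b, ne, e⟩ := h1
      rw [← hn]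
      refine lt_of_not_ge fun le => ne ?_
      exact (Quotient.mk''_surjective.bijective_of_nat_card_le le).1 (Quotient.sound' e)) hG (fun h a b c => by
        induction a using Quotient.inductionOn' with | _ a => ?_
        induction b using Quotient.inductionOn' with | _ b => ?_
        induction c using Quotient.inductionOn' with | _ c => ?_
        obtain ⟨g, e1, e2, e3⟩ := hc h a b c
        exact ⟨g, congrArg Quotient.mk'' e1, congrArg Quotient.mk'' e2, congrArg Quotient.mk'' e3⟩)
    exact ⟨m, fun h hh => (hN h).2 fun b => Quotient.exact' (hm h hh (Quotient.mk'' b))⟩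
  · refine ds_fin (fun (b : Ω) (x : N) => x • b = b) fun b => ?_
    letI := cls r b (stb r hr b) fun y hy a e => r.trans (hr y _ _ e) hy
    letI := cls r b N fun y hy a e => r.trans ((hN y).1 hy a) e
    obtain ⟨m, hm⟩ := hP {a // r a b} (stb r hr b) N (by
      obtain ⟨x, y, ne⟩ := h2
      rw [← hn]
      refine lt_of_not_ge fun le => ne ?_
      have := (Subtype.val_injective.bijective_of_nat_card_le (f := (Subtype.val : {a // r a b} → Ω)) le).2
      obtain ⟨x, rfl⟩ := this x
      obtain ⟨y, rfl⟩ := this y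
      exact r.trans x.2 (r.symm y.2)) inferInstance (fun h a a' a'' => by
        obtain ⟨g, e1, e2, e3⟩ := hc h a a' a''
        have hg : g ∈ stb r hr b :=
          r.trans (r.symm (hr g _ _ a.2)) (e1 ▸ r.trans ((hN h).1 h.2 a) a.2)
        exact ⟨⟨g, hg⟩, Subtype.ext e1, Subtype.ext e2, Subtype.ext e3⟩)
    exact ⟨m, fun x hx => congrArg Subtype.val (hm x hx ⟨b, r.refl b⟩)⟩

end Cfsg.Agent.CL3
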