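import Cfsg.Agent.CL3.Semi

set_option autoImplicit false
set_option linter.unusedVariables false

namespace Cfsg.Agent.CL3

universe u

open Cfsg.Agent.H11

variable {K B V G : Type*} [Field K] [Group B] [AddCommGroup V] [Module K V]
  [DistribMulAction B V] [Group G] [DistribMulAction G V]

namespace Rel

theorem sk (H : Heis K B V G) (g : G) (k : Kˣ) : ∃ k' : Kˣ, ∀ v : V, g • (k : K) • v = (k' : K) • g • v := by
  obtain ⟨k', h⟩ := H.exists_alpha_sc g k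
  exact ⟨k', fun v => by rw [← H.sc_smul, H.compat, h, H.sc_smul]⟩

theorem st1 (H : Heis K B V G) (g : G) {u : V} {b : B} (h : b ∈ H.St u) : H.α g b ∈ H.St (g • u) := by
  obtain ⟨k, hk⟩ := h
  obtain ⟨k', h'⟩ := sk H g k
  exact ⟨k', by rw [← H.compat, hk, h']⟩

theorem eig1 (H : Heis K B V G) (g : G) {u v : V} (h : v ∈ H.Eig (H.St u) u) :
    g • v ∈ H.Eig (H.St (g • u)) (g • u) := fun b hb k hk => by
  obtain ⟨k', h'⟩ := sk H g⁻¹ k
  have e : ∀ z : V, H.α g⁻¹ b • z = g⁻¹ • b • g • z := fun z => by rw [H.compat, inv_smul_smul]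
  have e1 : H.α g⁻¹ b • u = (k' : K) • u := by rw [e, hk, h', inv_smul_smul]
  have e2 := h _ ⟨k', e1⟩ k' e1
  rw [e, inv_smul_eq_iff] at e2
  rw [e2, ← inv_smul_smul g v, ← h', smul_inv_smul, smul_inv_smul]

theorem stb (H : Heis K B V G) (b : B) (u : V) : H.St u ≤ H.St (b • u) := fun s ⟨k, hk⟩ =>
  ⟨H.cm s b * k, by rw [H.cm_smul, hk, H.lin, smul_smul, Units.val_mul]⟩

theorem eigb (H : Heis K B V G) (c : B) {X : Subgroup B} {v w : V} (h : v ∈ H.Eig X w) :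
    c • v ∈ H.Eig X (c • w) := fun s hs k hk => by
  have e : s • w = (((H.cm s c)⁻¹ * k : Kˣ) : K) • w := by
    rw [H.cm_smul] at hk
    refine MulAction.injective c ?_
    simp only
    rw [H.lin, Units.val_mul, mul_smul, ← hk, smul_smul ((H.cm s c)⁻¹ : Kˣ).val, Units.inv_mul, one_smul]
  rw [H.cm_smul, h s hs _ e, H.lin, smul_smul, ← Units.val_mul, mul_inv_cancel_left]

end Rel

open Rel

theorem mem_St_smul [Finite K] (H : Heis K B V G) (g : G) (u : V) (b : B) :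
    H.α g b ∈ H.St (g • u) ↔ b ∈ H.St u :=
  ⟨fun h => by simpa only [H.alpha_inv, inv_smul_smul] using st1 H g⁻¹ h, st1 H g⟩

theorem mx_smul [Finite K] (H : Heis K B V G) (g : G) {u : V} (h : H.Mx u) : H.Mx (g • u) := by
  refine ⟨fun e => h.1 ((smul_eq_zero_iff_eq g).1 e), fun v hv le c hc => ?_⟩
  have l1 : H.St u ≤ H.St (g⁻¹ • v) := fun b hb => by
    simpa only [H.alpha_inv] using st1 H g⁻¹ (le (st1 H g hb))
  simpa only [H.alpha_inv'] using
    st1 H g (h.2 _ (fun e => hv ((smul_eq_zero_iff_eq g⁻¹).1 e)) l1 (st1 H g⁻¹ hc))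

theorem eig_smul [Finite K] (H : Heis K B V G) (g : G) (u v : V) :
    g • v ∈ H.Eig (H.St (g • u)) (g • u) ↔ v ∈ H.Eig (H.St u) u :=
  ⟨fun h => by simpa only [inv_smul_smul] using eig1 H g⁻¹ h, eig1 H g⟩

theorem St_bsmul (H : Heis K B V G) (b : B) (u : V) : H.St (b • u) = H.St u :=
  le_antisymm (by simpa only [inv_smul_smul] using stb H b⁻¹ (b • u)) (stb H b u)

theorem cp_St (H : Heis K B V G) {x w : V} (hx : H.Mx x) {ω : B ⧸ H.Pc x} (hw : H.Cp x ω w)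
    (h0 : w ≠ 0) : H.St w = H.St x := by
  rw [← St_bsmul H ω.out⁻¹ w]
  exact hx.St_eq H hw fun e => h0 ((smul_eq_zero_iff_eq _).1 e)

theorem cp_eig (H : Heis K B V G) {x w : V} (hx : H.Mx x) {ω : B ⧸ H.Pc x} (hw : H.Cp x ω w)
    (h0 : w ≠ 0) (v : V) : v ∈ H.Eig (H.St w) w ↔ H.Cp x ω v := by
  rw [cp_St H hx hw h0, Heis.Cp, ← H.Eig_eq le_rfl hw fun e => h0 ((smul_eq_zero_iff_eq _).1 e)]
  exact ⟨eigb H _, fun h => by simpa only [smul_inv_smul] using eigb H ω.out h⟩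

theorem cp_ev (H : Heis K B V G) {x w : V} {ω : B ⧸ H.Pc x} (hw : H.Cp x ω w) {s : B}
    (hs : s ∈ H.St x) {k : Kˣ} (hk : s • x = (k : K) • x) :
    s • w = ((H.cm s ω.out * k : Kˣ) : K) • w := by
  conv_lhs => rw [← smul_inv_smul ω.out w, H.cm_smul, hw s hs k hk, H.lin, smul_inv_smul, smul_smul]
  rw [Units.val_mul]

theorem cp_uniq (H : Heis K B V G) {x w : V} {ω η : B ⧸ H.Pc x} (h1 : H.Cp x ω w) (h2 : H.Cp x η w)
    (h0 : w ≠ 0) : ω = η := by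
  rw [← ω.out_eq', ← η.out_eq', QuotientGroup.eq]
  refine H.mem_cent.2 fun s hs => ?_
  obtain ⟨k, hk⟩ := id hs
  have := mul_right_cancel (Heis.unit_eq h0 ((cp_ev H h1 hs hk).symm.trans (cp_ev H h2 hs hk)))
  rw [H.cm_mul_right, H.cm_inv_right, this, inv_mul_cancel]

theorem cp_shift (H : Heis K B V G) {x w : V} {ω : B ⧸ H.Pc x} (hw : H.Cp x ω w) (c : B) :
    H.Cp x ((c : B ⧸ H.Pc x) * ω) (c • w) := by
  rw [H.cp_iff (b := c * ω.out) (by rw [QuotientGroup.mk_mul, QuotientGroup.out_eq']), mul_inv_rev, mul_smul, inv_smul_smul]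
  exact hw

theorem sum_cm (H : Heis K B V G) {x : V} [Fintype (B ⧸ H.Pc x)] {s : B} (hs : s ∈ H.St x)
    (hn : ¬ ∃ k, s = H.sc k) : ∑ ω : B ⧸ H.Pc x, (H.cm s ω.out : K) = 0 := by
  let χ : B ⧸ H.Pc x →* Kˣ := QuotientGroup.lift _ (H.cmH s) fun p hp => H.mem_cent.1 hp s hs
  have e : ∀ ω : B ⧸ H.Pc x, H.cm s ω.out = χ ω := fun ω => by
    conv_rhs => rw [← ω.out_eq']
    rfl
  simp only [e]
  refine sum_hom_units_eq_zero ((Units.coeHom K).comp χ) fun h => hn (H.cen s fun c => H.cm_eq_one_iff.1 ?_)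
  exact Units.ext (DFunLike.congr_fun h (c : B ⧸ H.Pc x))

theorem Rel.cfun [Finite K] (H : Heis K B V G) {x : V} (hx : H.Mx x) {t : V ≃+ V}
    (ht : Cl2 G t) (htx : t x = x) (ω : B ⧸ H.Pc x) : ∃ η, ∀ w, H.Cp x ω w → H.Cp x η (t w) := by
  obtain ⟨g, h1, h2⟩ := ht x (ω.out • x)
  have n0 : ω.out • x ≠ 0 := fun e => hx.1 ((smul_eq_zero_iff_eq _).1 e)
  have c1 : H.Cp x (H.α g ω.out : B) (t (ω.out • x)) := by
    rw [← h2, H.compat, h1, htx]
    exact H.cp_smul rfl (H.self_mem_Eig _ _)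
  refine ⟨(H.α g ω.out : B), fun w hw => ?_⟩
  obtain ⟨g', h3, h4⟩ := ht (ω.out • x) w
  have := eig1 H g' ((cp_eig H hx (H.cp_smul ω.out_eq' (H.self_mem_Eig _ _)) n0 w).2 hw)
  rw [h3, h4] at this
  exact (cp_eig H hx c1 (fun e => n0 (t.map_eq_zero_iff.1 e)) _).1 this

theorem exists_cperm [Finite B] [Finite K] (H : Heis K B V G) {x : V} (hx : H.Mx x) {t : V ≃+ V}
    (ht : Cl2 G t) (htx : t x = x) :
    ∃ ρ : Equiv.Perm (B ⧸ H.Pc x), ∀ ω w, H.Cp x ω w → H.Cp x (ρ ω) (t w) := by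
  choose ρ hρ using Rel.cfun H hx ht htx
  choose τ hτ using Rel.cfun H hx ht.symm (t.symm_apply_eq.2 htx.symm)
  have l : Function.LeftInverse τ ρ := fun ω => by
    have c := H.cp_smul ω.out_eq' (H.self_mem_Eig (H.St x) x)
    have := hτ _ _ (hρ _ _ c)
    rw [t.symm_apply_apply] at this
    exact cp_uniq H this c fun e => hx.1 ((smul_eq_zero_iff_eq _).1 e)
  exact ⟨Equiv.ofBijective ρ (Finite.injective_iff_bijective.1 l.injective), hρ⟩

end Cfsg.Agent.CL3
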