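import Cfsg.Agent.CL3.Defs

set_option autoImplicit false

namespace Cfsg.Agent.CL3

universe u

open Cfsg.Agent.H11

variable {K B V G : Type*} [Field K] [Group B] [AddCommGroup V] [Module K V]
  [DistribMulAction B V] [Group G] [DistribMulAction G V]

theorem part {V ι : Type*} [AddCommGroup V] [Finite ι] (W : ι → AddSubgroup V)
    (hcov : ∀ v : V, ∃ i, v ∈ W i) (hdis : ∀ i j, i ≠ j → ∀ v ∈ W i, v ∈ W j → v = 0) :
    (∃ i, W i = ⊤) ∨ ∀ i, Finite (W i) ∧ Nat.card (W i) < Nat.card ι := by
  by_cases h : ∃ i, W i = ⊤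
  · exact Or.inl h
  refine Or.inr fun i => ?_
  obtain ⟨v, hv⟩ : ∃ v, v ∉ W i := by
    by_contra hn
    push Not at hn
    exact h ⟨i, (AddSubgroup.eq_top_iff' _).2 hn⟩
  choose j hj using fun w : W i => hcov (v + w)
  have h1 : ∀ w, j w ≠ i := fun w e => hv (by
    have := sub_mem (e ▸ hj w) w.2
    rwa [add_sub_cancel_right] at this)
  have h2 : Function.Injective j := fun w w' e => Subtype.ext (sub_eq_zero.1
    (hdis _ _ (h1 w).symm _ (sub_mem w.2 w'.2) (by
      have := sub_mem (hj w) (e ▸ hj w')
      rwa [add_sub_add_left_eq_sub] at this)))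
  have := Finite.of_injective j h2
  refine ⟨this, ?_⟩
  have h3 := Nat.card_le_card_of_injective (fun o : Option (W i) => o.elim i j) (by
    rintro (_ | a) (_ | b) e
    · rfl
    · exact absurd e.symm (h1 b)
    · exact absurd e (h1 a)
    · exact congrArg some (h2 e))
  rwa [Finite.card_option] at h3

theorem semi_of [Finite K] [Nontrivial V] {t : V ≃+ V}
    (h : ∀ k : K, ∃ k' : K, ∀ v : V, t (k • v) = k' • t v) : Semi K t := by
  choose s hs using h
  obtain ⟨v, hv⟩ := exists_ne (0 : V)
  have hi := smul_left_injective K (t.map_eq_zero_iff.not.2 hv)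
  let f : K →+* K :=
    { toFun := s
      map_one' := hi (by simp only [← hs, one_smul])
      map_mul' := fun a b => hi (by simp only [mul_smul, ← hs])
      map_zero' := hi (by simp only [← hs, zero_smul, map_zero])
      map_add' := fun a b => hi (by simp only [add_smul, ← hs, map_add]) }
  exact ⟨RingEquiv.ofBijective f ⟨f.injective, Finite.injective_iff_surjective.1 f.injective⟩, hs⟩

theorem semi_smul [Finite K] (H : Heis K B V G) (g : G) :
    Semi K (DistribMulAction.toAddEquiv V g) := by
  obtain ⟨x, hx⟩ := H.nt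
  have := nontrivial_of_ne x 0 hx
  refine semi_of fun k => ?_
  rcases eq_or_ne k 0 with rfl | hk
  · exact ⟨0, fun v => by rw [zero_smul, zero_smul, map_zero]⟩
  obtain ⟨k', e⟩ := H.exists_alpha_sc g (Units.mk0 k hk)
  refine ⟨k', fun v => ?_⟩
  have := H.compat g (H.sc (Units.mk0 k hk)) v
  rwa [e, H.sc_smul, H.sc_smul] at this

theorem semi_pow_le (K : Type*) [Field K] [Finite K] : 2 ^ Nat.card (K ≃+* K) ≤ Nat.card K := by
  have : Finite (RingAut K) := Finite.of_injective (fun σ : K ≃+* K => (σ : K → K)) DFunLike.coe_injective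
  have := Fintype.ofFinite (RingAut K)
  have h := FixedPoints.finrank_eq_card (RingAut K) K
  rw [Module.natCard_eq_pow_finrank (K := FixedPoints.subfield (RingAut K) K) (V := K), h,
    ← Nat.card_eq_fintype_card]
  exact Nat.pow_le_pow_left Finite.one_lt_card _

theorem semi_sq_lt (n : ℕ) : n * n < 2 ^ n + n := by
  induction n with
  | zero => simp
  | succ n ih =>
    have := Nat.mul_le_pow (a := 2) (by norm_num) n
    rw [pow_succ]
    nlinarith

theorem semi [Finite K] [Finite V] (H : Heis K B V G) {t : V ≃+ V} (ht : Cl2 G t) : Semi K t := by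
  obtain ⟨x, hx⟩ := H.nt
  have := nontrivial_of_ne x 0 hx
  refine semi_of fun k => ?_
  let S := Set.range fun σ : K ≃+* K => σ k
  let W : S → AddSubgroup V := fun ν =>
    { carrier := {u | t (k • u) = (ν : K) • t u}
      zero_mem' := by simp
      add_mem' := fun {a b} ha hb => by
        simp only [Set.mem_setOf_eq] at *
        rw [smul_add, map_add, map_add, smul_add, ha, hb]
      neg_mem' := fun {a} ha => by
        simp only [Set.mem_setOf_eq] at *
        rw [smul_neg, map_neg, map_neg, smul_neg, ha] }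
  have hcov : ∀ v : V, ∃ i, v ∈ W i := fun v => by
    obtain ⟨g, h1, h2⟩ := ht v (k • v)
    obtain ⟨σ, hσ⟩ := semi_smul H g
    exact ⟨⟨σ k, σ, rfl⟩, show t (k • v) = σ k • t v by rw [← h1, ← h2]; exact hσ k v⟩
  rcases part W hcov (fun i j hij v hi hj => by
    by_contra h0
    exact hij (Subtype.ext (smul_left_injective K (t.map_eq_zero_iff.not.2 h0)
      ((show t (k • v) = (i : K) • t v from hi).symm.trans hj)))) with ⟨i, hi⟩ | h
  · exact ⟨i, fun v => (hi ▸ AddSubgroup.mem_top v : v ∈ W i)⟩
  exfalso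
  have := Fintype.ofFinite S
  have : Finite (K ≃+* K) := Finite.of_injective (fun σ : K ≃+* K => (σ : K → K)) DFunLike.coe_injective
  have h1 := Nat.card_le_card_of_surjective (fun a : Σ i, W i => (a.2 : V)) fun v =>
    (hcov v).elim fun i hi => ⟨⟨i, v, hi⟩, rfl⟩
  rw [Nat.card_sigma] at h1
  have h2 : ∑ i, (Nat.card (W i) + 1) ≤ ∑ _i : S, Nat.card S := Finset.sum_le_sum fun i _ => (h i).2
  rw [Finset.sum_add_distrib, Finset.sum_const, Finset.sum_const, Finset.card_univ, smul_eq_mul, smul_eq_mul,
    ← Nat.card_eq_fintype_card] at h2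
  have h3 : Nat.card S ≤ Nat.card (K ≃+* K) := Nat.card_le_card_of_surjective _ Set.rangeFactorization_surjective
  have h4 := Nat.card_le_card_of_injective _ (smul_left_injective K hx)
  have h5 := semi_pow_le K
  have h6 := semi_sq_lt (Nat.card S)
  have h7 := Nat.pow_le_pow_right (n := 2) (by norm_num) h3
  omega

end Cfsg.Agent.CL3
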